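import Groth.Agent.EtPurLib.SupSheaf

/-!
# Vanishing of local cohomology in stages
-/

universe v v' v'' u u' u''

set_option autoImplicit false
set_option linter.all false
set_option backward.isDefEq.respectTransparency false
set_option backward.isDefEq.respectTransparency.types false
set_option maxHeartbeats 1000000

open CategoryTheory CategoryTheory.Limits AlgebraicGeometry Opposite
open Groth.Agent Groth.Agent.EtShLib EtSliceLib EtLocCohLib
open scoped ZeroObject

namespace EtSemiLib

variable {C : Type u} [Category.{v} C] [Abelian C] [EnoughInjectives C] [HasInjectiveResolutions C]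
  {D : Type u'} [Category.{v'} D] [Abelian D] (S : C ⥤ D) [S.Additive] [PreservesFiniteLimits S]
  {A₀ : Type u''} [Category.{v''} A₀] [Abelian A₀] [HasInjectiveResolutions A₀]
  (T : A₀ ⥤ C) [T.Additive]

open Classical in
/-- A derived functor of a composition vanishes with the terms of its degree. -/
theorem isZero_rightDerived_comp
    (hT : ∀ Q : A₀, Injective Q → ∀ q : ℕ, 0 < q → IsZero ((S.rightDerived q).obj (T.obj Q))) (A : A₀) (i : ℕ)
    (h : ∀ a b : ℕ, a + b = i → IsZero ((S.rightDerived a).obj ((T.rightDerived b).obj A))) :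
    IsZero (((T ⋙ S).rightDerived i).obj A) := by
  let H : ℤ → D := fun n => if 0 ≤ n then ((T ⋙ S).rightDerived n.toNat).obj A else 0
  letI := HasDerivedCategory.standard C
  letI := HasDerivedCategory.standard D
  obtain ⟨E, a, h₁, -, h₃, h₄⟩ := SpSeqLib.exists_grothendieck_spectralSequence S T hT A H
    (fun n => ⟨eqToIso (by simp [H])⟩) (fun n hn => (isZero_zero D).of_iso (eqToIso (by simp [H, not_le.2 hn])))
  let n : ℤ := i
  have hz : ∀ p q : ℤ, p + q = n → IsZero ((E.page 2 le_rfl).X (p, q)) := by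
    intro p q hq
    by_cases hpq : 0 ≤ p ∧ 0 ≤ q
    · obtain ⟨p, rfl⟩ := Int.eq_ofNat_of_zero_le hpq.1
      obtain ⟨q, rfl⟩ := Int.eq_ofNat_of_zero_le hpq.2
      exact (h p q (by lia)).of_iso (h₃ p q).some
    · exact h₄ p q (by lia)
  have hgr : ∀ p, a.fil n (p + 1) = a.fil n p := fun p => by
    have h := SpSeqLib.isZero_grPiece_of_isZero_page E 2 le_rfl (p, n - p) (hz p _ (by lia)) a
    have h' : ∀ m, m = n → IsZero (SpSeq.grPiece (a.fil m) (a.anti m) p) →
        IsZero (SpSeq.grPiece (a.fil n) (a.anti n) p) := by rintro m rfl hm; exact hm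
    exact SpSeqLib.eq_of_isZero_subquot _ (h' _ (by simp) h)
  obtain ⟨b, hb⟩ := (h₁ n).2
  obtain ⟨c, hc⟩ := (h₁ n).1
  have key : ∀ (d : ℕ) (p : ℤ), a.fil n (p + d) = a.fil n p := by
    intro d
    induction d with
    | zero => simp
    | succ d ih =>
      intro p
      rw [show p + ((d + 1 : ℕ) : ℤ) = p + d + 1 by push_cast; ring, hgr, ih]
  have hall : ∀ p q : ℤ, a.fil n p = a.fil n q := by
    intro p q
    rcases le_total p q with h | h
    · obtain ⟨d, rfl⟩ : ∃ d : ℕ, q = p + d := ⟨(q - p).toNat, by lia⟩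
      exact (key d p).symm
    · obtain ⟨d, rfl⟩ : ∃ d : ℕ, p = q + d := ⟨(p - q).toNat, by lia⟩
      exact key d q
  have hbt : (⊤ : Subobject (H n)) = ⊥ := by rw [← hc, ← hb]; exact hall c b
  have hzH : IsZero (H n) := by
    rw [IsZero.iff_id_eq_zero, ← cancel_epi (⊤ : Subobject (H n)).arrow]
    have h0 : (⊤ : Subobject (H n)).arrow = 0 := by rw [hbt]; exact Subobject.bot_arrow
    simp [h0]
  exact hzH.of_iso (eqToIso (by simp [H, n]))

end EtSemiLib

namespace EtSemiLib

/-- Local cohomology with supports in stages vanishes with the terms of its degree. -/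
theorem isZero_locCoh_stages {X UY UD : Scheme.{u}} (jY : UY ⟶ X) [IsOpenImmersion jY] [EtCoh.BCCont jY]
    (jD : UD ⟶ X) [IsOpenImmersion jD] [EtCoh.BCCont jD] (hr : Set.range jD.base ⊆ Set.range jY.base)
    (F : EtCoh.Ab X) (i : ℕ)
    (h : ∀ a b : ℕ, a + b = i → IsZero ((EtDual.locCoh jY a).obj ((EtDual.locCoh jD b).obj F))) :
    IsZero ((EtDual.locCoh jY i).obj F) := by
  haveI := preservesFiniteLimits_secSupp jY
  have hT : ∀ Q : EtCoh.Ab X, Injective Q → ∀ q : ℕ, 0 < q →
      IsZero (((EtDual.secSupp jY).rightDerived q).obj ((EtDual.secSupp jD).obj Q)) := by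
    intro Q hQ q hq
    obtain ⟨q, rfl⟩ := Nat.exists_eq_succ_of_ne_zero hq.ne'
    haveI := hQ
    haveI := injective_secSupp jD Q
    exact (EtDual.secSupp jY).isZero_rightDerived_obj_injective_succ q _
  exact (isZero_rightDerived_comp (EtDual.secSupp jY) (EtDual.secSupp jD) hT F i h).of_iso
    (EtPurLib.rdIso (EtPurLib.secCompIso jY jD hr) F i).symm

end EtSemiLib
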