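import Groth.Agent.EtSemiLib.Basic
import Groth.Agent.EtSemiLib.Inequality
import Groth.Agent.EtPurEqLib.Zero
import Groth.Agent.S3100
import Groth.Agent.S6658
import Groth.Agent.S0162
import Groth.Prelude.Def_EtCore

/-!
# Low degrees along a relative divisor, and the statement proved by induction
-/

set_option autoImplicit false
set_option linter.all false
set_option backward.isDefEq.respectTransparency false
set_option backward.isDefEq.respectTransparency.types false
set_option synthInstance.maxHeartbeats 400000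
set_option maxHeartbeats 1600000

universe u

open CategoryTheory CategoryTheory.Limits AlgebraicGeometry Opposite TopologicalSpace
open Groth.Agent

noncomputable section

namespace EtSemiLib

/-- Relative semi-purity in relative dimension `M`. -/
def SP (M : ℕ) : Prop :=
  ∀ (n d : ℕ) {S X Y U : Scheme.{u}} (f : X ⟶ S) [SmoothOfRelativeDimension M f] (i : Y ⟶ X) [IsClosedImmersion i]
    (j : U ⟶ X) [IsOpenImmersion j] [EtCoh.BCCont j],
    Set.range j.base = (Set.range i.base)ᶜ → (∀ y : Y, FlatMor.fibreDimAt (i ≫ f) y ≤ (d : WithBot ℕ∞)) →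
    IsUnit (n : Γ(S, ⊤)) → ∀ G : EtCoh.Ab S, n • 𝟙 G = 0 → ∀ p : ℕ, p < 2 * (M - d) →
      IsZero ((EtDual.locCoh j p).obj ((EtCoh.pull f).obj G))

/-- Local cohomology vanishes on the open complement. -/
theorem exists_nhd_of_mem {X U : Scheme.{u}} (j : U ⟶ X) [IsOpenImmersion j] [EtCoh.BCCont j] (F : EtCoh.Ab X)
    (p : ℕ) {x : X} (hx : x ∈ Set.range j.base) :
    ∃ (X' : Scheme.{u}) (g : X' ⟶ X) (_ : AlgebraicGeometry.Etale g) (x' : X'),
      g.base x' = x ∧ IsZero ((EtCoh.pull g).obj ((EtDual.locCoh j p).obj F)) := by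
  obtain ⟨w, rfl⟩ := hx
  haveI : AlgebraicGeometry.Etale j := inferInstance
  refine ⟨U, j, inferInstance, w, rfl, ?_⟩
  obtain ⟨e⟩ := EtPurLib.nonempty_locCoh_pull j j (𝟙 U) (by ext z; simp) F p
  exact (EtPurEqLib.isZero_locCoh_surjective (𝟙 U) (fun z => ⟨z, rfl⟩) _ _).of_iso e

open Polynomial in
/-- A monic polynomial cuts out a fibrewise nowhere dense subset along a smooth map to the affine line. -/
theorem fibre_dense {R : Type u} [CommRing R] {P : R[X]} (hP : P.Monic) {W : Scheme.{u}}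
    (π : W ⟶ Spec (CommRingCat.of R[X])) [Flat π] (x : W) :
    x ∈ closure ((π.base ⁻¹' (PrimeSpectrum.basicOpen P : Set (PrimeSpectrum R[X]))) ∩
      {y : W | (π ≫ Spec.map (CommRingCat.ofHom (C : R →+* R[X]))).base y =
        (π ≫ Spec.map (CommRingCat.ofHom (C : R →+* R[X]))).base x}) := by
  let t : PrimeSpectrum R[X] := π.base x
  let p : Ideal R := t.asIdeal.comap C
  haveI : (p.map C).IsPrime := Ideal.isPrime_map_C_of_isPrime
  let η : PrimeSpectrum R[X] := ⟨p.map C, inferInstance⟩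
  have hsp : η ⤳ t := (PrimeSpectrum.le_iff_specializes η t).1 (Ideal.map_comap_le)
  obtain ⟨y, hy, hyη⟩ := Flat.generalizingMap π (hsp : (η : Spec (CommRingCat.of R[X])) ⤳ π.base x)
  refine mem_closure_iff.2 fun O hO hxO => ⟨y, hy.mem_open hO hxO, ?_, ?_⟩
  · show P ∉ (π.base y).asIdeal
    rw [hyη]
    intro hPm
    have h1 := Ideal.mem_map_C_iff.1 hPm P.natDegree
    rw [hP.coeff_natDegree] at h1
    exact (Ideal.IsPrime.ne_top (inferInstance : p.IsPrime)) ((Ideal.eq_top_iff_one _).2 h1)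
  · show PrimeSpectrum.comap C (π.base y) = PrimeSpectrum.comap C t
    rw [hyη]
    refine PrimeSpectrum.ext (le_antisymm ?_ Ideal.le_comap_map)
    exact Ideal.comap_mono Ideal.map_comap_le

open Polynomial in
/-- Local cohomology along the inverse image of a monic hypersurface of the affine line. -/
theorem stage_iso {R : Type u} [CommRing R] {P : R[X]} (hP : P.Monic) {W UD : Scheme.{u}}
    (π : W ⟶ Spec (CommRingCat.of R[X])) [Smooth π] (jD : UD ⟶ W) [IsOpenImmersion jD] [EtCoh.BCCont jD]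
    (hjD : Set.range jD.base = π.base ⁻¹' (PrimeSpectrum.basicOpen P : Set (PrimeSpectrum R[X])))
    (n : ℕ) (hn : IsUnit (n : R)) (G : EtCoh.Ab (Spec (CommRingCat.of R))) (hG : n • 𝟙 G = 0) (b : ℕ) :
    IsZero ((EtDual.locCoh jD b).obj
        ((EtCoh.pull (π ≫ Spec.map (CommRingCat.ofHom (C : R →+* R[X])))).obj G)) ∨
      ∃ K : EtCoh.Ab (Spec (CommRingCat.of R[X])), n • 𝟙 K = 0 ∧ 2 ≤ b ∧
        Nonempty ((EtDual.locCoh jD b).obj ((EtCoh.pull (π ≫ Spec.map (CommRingCat.ofHom (C : R →+* R[X])))).obj G) ≅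
          (EtCoh.pull π).obj K) := by
  let pr := Spec.map (CommRingCat.ofHom (C : R →+* R[X]))
  let F := (EtCoh.pull (π ≫ pr)).obj G
  haveI : Smooth pr := by
    haveI := smoothOfRelativeDimension_specMap (ρ := (C : R →+* R[X])) (M := 1) (by
      rw [← Polynomial.algebraMap_eq, RingHom.isStandardSmoothOfRelativeDimension_algebraMap]
      haveI := isStandardSmooth_mvPolynomial R 1
      exact Algebra.IsStandardSmoothOfRelativeDimension.of_algEquiv 1 (MvPolynomial.uniqueAlgEquiv R (Fin 1)))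
    exact SmoothOfRelativeDimension.smooth 1 _
  haveI := EtLocCohLib.preservesFiniteLimits_secSupp jD
  haveI : IsIso (EtDual.unitApp jD F) := Groth.Agent.S3100.result (π ≫ pr) jD (fun x => by
    rw [hjD]; exact fibre_dense hP π x) G
  rcases b with _ | _ | q
  · refine Or.inl (IsZero.of_iso ?_ ((EtDual.secSupp jD).rightDerivedZeroIsoSelf.app _))
    exact isZero_kernel_of_mono _
  · obtain ⟨⟨e⟩, -⟩ := Groth.Agent.S6658.result jD F
    exact Or.inl ((isZero_cokernel_of_epi _).of_iso e.symm)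
  refine Or.inr ?_
  let j0 := Spec.map (CommRingCat.ofHom (algebraMap R[X] (Localization.Away P)))
  haveI : IsOpenImmersion j0 := IsOpenImmersion.of_isLocalization P
  have hr0 : Set.range j0.base = (PrimeSpectrum.basicOpen P : Set (PrimeSpectrum R[X])) :=
    PrimeSpectrum.localization_away_comap_range (Localization.Away P) P
  let e := IsOpenImmersion.lift j0 (jD ≫ π) (by
    rw [hr0, Scheme.Hom.comp_base, TopCat.coe_comp, Set.range_comp, hjD]
    exact Set.image_preimage_subset _ _)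
  have hfac : e ≫ j0 = jD ≫ π := IsOpenImmersion.lift_fac _ _ _
  have hc : IsPullback e jD j0 π := IsOpenImmersion.isPullback e jD j0 π hfac.symm (Opens.ext (by
    show π.base ⁻¹' Set.range j0.base = Set.range jD.base
    rw [hr0, hjD]))
  let G1 := (EtCoh.pull pr).obj G
  let H := (EtCoh.pull j0).obj G1
  have hG1 : n • 𝟙 G1 = 0 := nsmul_pull pr hG
  have hH : n • 𝟙 H = 0 := nsmul_pull j0 hG1
  let K := (EtCoh.Rpush j0 (q + 1)).obj H
  have hK : n • 𝟙 K = 0 := by
    haveI : (EtCoh.Rpush j0 (q + 1)).Additive :=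
      inferInstanceAs (((EtCoh.push j0).rightDerived (q + 1)).Additive)
    exact EtSmPairLib.nsmul_id_of_iso (EtCoh.Rpush j0 (q + 1)) (Iso.refl _) hH
  refine ⟨K, hK, by omega, ?_⟩
  obtain ⟨⟨e1⟩, -⟩ := Groth.Agent.S0162.result π j0 jD e hc H
    (isTorsionInvertibleOn_of_nsmul (isUnit_natCast_spec (isUnit_natCast_of_hom C hn)) hH) (q + 1)
  obtain ⟨e2⟩ := (Groth.Agent.S6658.result jD F).2 (q + 1) (by omega)
  let e3 : (EtCoh.pull e).obj H ≅ (EtCoh.pull jD).obj F :=
    ((EtCore.pullComp e j0).app G1).symm ≪≫ (EtCore.pullCongr hfac).app G1 ≪≫ (EtCore.pullComp jD π).app G1 ≪≫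
      (EtCoh.pull jD).mapIso ((EtCore.pullComp π pr).app G).symm
  exact ⟨e2.symm ≪≫ (EtCoh.Rpush jD (q + 1)).mapIso e3.symm ≪≫ e1.symm⟩

end EtSemiLib
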