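import Groth.Agent.EtSemiLib.Fibre
import Groth.Agent.FibDimLib.Smooth
import Groth.Agent.EtSmPairLib.Coeff
import Groth.Prelude.Def_PBC
import Mathlib.AlgebraicGeometry.Morphisms.Smooth
import Mathlib.RingTheory.RingHom.StandardSmooth
import Mathlib.RingTheory.PolynomialAlgebra
import Mathlib.RingTheory.Smooth.StandardSmoothOfFree
import Mathlib.RingTheory.Kaehler.Polynomial
import Mathlib.RingTheory.TensorProduct.MvPolynomial

/-!
# Auxiliary facts for relative semi-purity
-/

set_option autoImplicit false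
set_option linter.all false
set_option backward.isDefEq.respectTransparency false
set_option backward.isDefEq.respectTransparency.types false
set_option synthInstance.maxHeartbeats 400000
set_option maxHeartbeats 1600000

universe u

open CategoryTheory CategoryTheory.Limits AlgebraicGeometry Opposite TopologicalSpace
open Groth.Agent

noncomputable section

namespace EtSemiLib

/-- Fibre dimensions along a topologically injective map of morphisms. -/
theorem fibreDimAt_le_of_inducing {X S X' S' : Scheme.{u}} (a : X ⟶ S) (b : X' ⟶ S') (k : X' → X)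
    (hk : Topology.IsInducing k) (k₀ : S' → S) (hw : ∀ x, a.base (k x) = k₀ (b.base x)) (x : X') :
    FlatMor.fibreDimAt b x ≤ FlatMor.fibreDimAt a (k x) := by
  let e : ↥(b ⁻¹' {b x}) → ↥(a ⁻¹' {a (k x)}) := fun w => ⟨k w.1, by
    show a (k w.1) = a (k x)
    rw [show a (k w.1) = k₀ (b w.1) from hw _, show a (k x) = k₀ (b x) from hw _, show b w.1 = b x from w.2]⟩
  have he : Topology.IsInducing e :=
    (Topology.IsInducing.subtypeVal.of_comp_iff).mp (hk.comp Topology.IsInducing.subtypeVal)
  let κ : b.fiber (b x) → a.fiber (a (k x)) := (a.fiberHomeo (a (k x))).symm ∘ e ∘ b.fiberHomeo (b x)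
  have hκ : Topology.IsInducing κ :=
    (a.fiberHomeo _).symm.isInducing.comp (he.comp (b.fiberHomeo _).isInducing)
  refine (FibDimLib.localDim_le_of_isInducing hκ (b.asFiber x)).trans (le_of_eq ?_)
  congr 1
  refine (a.fiberHomeo _).symm_apply_eq.mpr (Subtype.ext ?_)
  simp only [e, Scheme.Hom.asFiber, Homeomorph.apply_symm_apply, Function.comp_apply]

/-- Points of fibres of dimension zero are quasi-finite. -/
theorem quasiFiniteAt_of_fibreDim {A C : Type u} [CommRing A] [CommRing C] [Algebra A C] [Algebra.FiniteType A C]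
    (q : PrimeSpectrum C)
    (h : FlatMor.fibreDimAt (Spec.map (CommRingCat.ofHom (algebraMap A C))) q ≤ 0) :
    Algebra.QuasiFiniteAt A q.asIdeal := by
  rw [Algebra.quasiFiniteAt_iff_isOpen_singleton_fiber]
  let p := PrimeSpectrum.comap (algebraMap A C) q
  let F := p.asIdeal.Fiber C
  let H := PrimeSpectrum.preimageHomeomorphFiber A C p
  haveI : IsNoetherianRing F := Algebra.FiniteType.isNoetherianRing p.asIdeal.ResidueField _
  let f := Spec.map (CommRingCat.ofHom (algebraMap A C))
  have h3 := (f.fiberHomeo (f q)).symm.isOpenEmbedding.comp H.symm.isOpenEmbedding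
  have e : FlatMor.fibreDimAt f q = FlatMor.localDim (PrimeSpectrum F) (H ⟨q, rfl⟩) := by
    refine (congrArg (FlatMor.localDim (f.fiber (f q))) ?_).trans
      (FibDimLib.localDim_eq_of_isOpenEmbedding h3 _)
    show f.asFiber q = (f.fiberHomeo (f q)).symm (H.symm (H ⟨q, rfl⟩))
    rw [Homeomorph.symm_apply_apply, Scheme.Hom.asFiber]
  have h0 : IsOpen ({H ⟨q, rfl⟩} : Set (PrimeSpectrum F)) := by
    refine (FibDimLib.localDim_eq_zero_iff _ fun U hU => ⟨U, hU, le_rfl, inferInstance⟩).1
      (le_antisymm (e ▸ h) (FibDimLib.localDim_nonneg _))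
  have h1 := h0.preimage H.continuous
  have h2 : (H ⁻¹' {H ⟨q, rfl⟩}) = {(⟨q, rfl⟩ : (PrimeSpectrum.comap (algebraMap A C) ⁻¹' {p} : Set (PrimeSpectrum C)))} :=
    Set.ext fun w => ⟨fun h => H.injective h, fun h => congrArg H h⟩
  exact h2 ▸ h1

/-- Finite algebras have fibres of dimension zero. -/
theorem fibreDimAt_le_zero_of_finite {A C : Type u} [CommRing A] [CommRing C] [Algebra A C] [Module.Finite A C]
    (q : PrimeSpectrum C) : FlatMor.fibreDimAt (Spec.map (CommRingCat.ofHom (algebraMap A C))) q ≤ 0 := by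
  obtain ⟨Q, -, hQ⟩ := FibDimLib.fibreDimAt_specMap A C q
  rw [← hQ]
  haveI : IsArtinianRing ((PrimeSpectrum.comap (algebraMap A C) q).asIdeal.Fiber C) :=
    IsArtinianRing.of_finite (PrimeSpectrum.comap (algebraMap A C) q).asIdeal.ResidueField _
  exact FibDimLib.localDim_le_zero_of_isOpen (isOpen_discrete _)

theorem isStandardSmooth_mvPolynomial (R : Type u) [CommRing R] (m : ℕ) :
    Algebra.IsStandardSmoothOfRelativeDimension m R (MvPolynomial (Fin m) R) := by
  haveI hs : Algebra.IsStandardSmooth ℤ (MvPolynomial (Fin m) ℤ) :=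
    Algebra.IsStandardSmooth.of_basis_kaehlerDifferential (KaehlerDifferential.mvPolynomialBasis ℤ (Fin m)) (by
      rintro _ ⟨i, rfl⟩
      exact ⟨MvPolynomial.X i, (KaehlerDifferential.mvPolynomialBasis_apply ℤ (Fin m) i).symm⟩)
  haveI : Algebra.IsStandardSmoothOfRelativeDimension m ℤ (MvPolynomial (Fin m) ℤ) := by
    rw [Algebra.IsStandardSmoothOfRelativeDimension.iff_of_isStandardSmooth,
      rank_eq_card_basis (KaehlerDifferential.mvPolynomialBasis ℤ (Fin m)), Fintype.card_fin]
  exact Algebra.IsStandardSmoothOfRelativeDimension.of_algEquiv m (MvPolynomial.algebraTensorAlgEquiv ℤ R)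

open Polynomial in
/-- Polynomials in variables and in one more variable. -/
def swapEquiv (A : Type u) [CommRing A] (M : ℕ) :
    MvPolynomial (Fin M) A[X] ≃+* (MvPolynomial (Fin M) A)[X] :=
  RingEquiv.ofRingHom
    (MvPolynomial.eval₂Hom (mapRingHom MvPolynomial.C) fun i => C (MvPolynomial.X i))
    (eval₂RingHom (MvPolynomial.eval₂Hom (MvPolynomial.C.comp C) MvPolynomial.X) (MvPolynomial.C X))
    (by
      refine Polynomial.ringHom_ext' (MvPolynomial.ringHom_ext (fun a => ?_) fun i => ?_) ?_ <;> simp)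
    (by
      refine MvPolynomial.ringHom_ext' (Polynomial.ringHom_ext (fun a => ?_) ?_) fun i => ?_ <;> simp)

open Polynomial in
/-- The projection along a translated coordinate. -/
theorem isStandardSmooth_projection {A B : Type u} [CommRing A] [CommRing B] [Algebra A B] (M : ℕ)
    (φ : (MvPolynomial (Fin M) A)[X] →+* B) (hφ : φ.Etale)
    (hcomp : φ.comp (C.comp MvPolynomial.C) = algebraMap A B) (h : MvPolynomial (Fin M) A) :
    RingHom.IsStandardSmoothOfRelativeDimension M (aeval (φ (X + C h)) : A[X] →ₐ[A] B).toRingHom := by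
  let σ := (swapEquiv A M).trans (Polynomial.algEquivAevalXAddC h).toRingEquiv
  let ψ := φ.comp σ.toRingHom
  have hψ : ψ.Etale := RingHom.Etale.respectsIso.2 φ σ hφ
  have hC : RingHom.IsStandardSmoothOfRelativeDimension M
      (MvPolynomial.C : A[X] →+* MvPolynomial (Fin M) A[X]) := by
    rw [← MvPolynomial.algebraMap_eq, RingHom.isStandardSmoothOfRelativeDimension_algebraMap]
    exact isStandardSmooth_mvPolynomial A[X] M
  have h2 := (RingHom.etale_iff_isStandardSmoothOfRelativeDimension_zero.1 hψ).comp hC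
  rw [Nat.zero_add] at h2
  convert h2 using 1
  refine Polynomial.ringHom_ext (fun a => ?_) ?_
  · show aeval _ (C a) = φ ((Polynomial.algEquivAevalXAddC h) (swapEquiv A M (MvPolynomial.C (C a))))
    simp [swapEquiv, ← hcomp]
  · show aeval _ X = φ ((Polynomial.algEquivAevalXAddC h) (swapEquiv A M (MvPolynomial.C X)))
    simp [swapEquiv]

theorem smoothOfRelativeDimension_specMap {A B : Type u} [CommRing A] [CommRing B] {M : ℕ} {ρ : A →+* B}
    (h : ρ.IsStandardSmoothOfRelativeDimension M) :
    SmoothOfRelativeDimension M (Spec.map (CommRingCat.ofHom ρ)) :=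
  (HasRingHomProperty.Spec_iff (P := @SmoothOfRelativeDimension M)).2
    (RingHom.locally_of RingHom.isStandardSmoothOfRelativeDimension_respectsIso _ h)

theorem isUnit_natCast_of_hom {R : Type u} [CommRing R] {R' : Type u} [CommRing R'] {n : ℕ} (φ : R →+* R')
    (h : IsUnit (n : R)) : IsUnit (n : R') := by simpa using h.map φ

theorem isUnit_natCast_spec {R : Type u} [CommRing R] {n : ℕ} (h : IsUnit (n : R)) :
    IsUnit (n : Γ(Spec (CommRingCat.of R), ⊤)) :=
  isUnit_natCast_of_hom (Scheme.ΓSpecIso (CommRingCat.of R)).inv.hom h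

theorem nsmul_pull {X Y : Scheme.{u}} (g : Y ⟶ X) {n : ℕ} {G : EtCoh.Ab X} (h : n • 𝟙 G = 0) :
    n • 𝟙 ((EtCoh.pull g).obj G) = 0 := by
  haveI : (EtCoh.pull g).Additive := (EtCoh.pullPushAdj g).left_adjoint_additive
  exact EtSmPairLib.nsmul_id_of_iso (EtCoh.pull g) (Iso.refl _) h

theorem isTorsionInvertibleOn_of_nsmul {S T : Scheme.{u}} {n : ℕ} (hn : IsUnit (n : Γ(S, ⊤))) {F : EtCoh.Ab T}
    (h : n • 𝟙 F = 0) : EtPBC.IsTorsionInvertibleOn S F := by
  intro U s x
  refine ⟨U, 𝟙 U, n, ⟨x, rfl⟩, hn, ?_⟩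
  have h1 := EtLocCohLib.app_nsmul_id F n U s
  rw [h] at h1
  rw [op_id, F.obj.map_id]
  exact h1.symm

end EtSemiLib
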