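import Mathlib.RingTheory.Unramified.LocalStructure
import Mathlib.RingTheory.Localization.Integral
import Mathlib.RingTheory.Polynomial.Basic
import Mathlib.RingTheory.PrincipalIdealDomain
import Mathlib.RingTheory.Etale.QuasiFinite

/-!
# A coordinate which drops the fibre dimension of a closed subset
-/

set_option autoImplicit false
set_option linter.all false
set_option synthInstance.maxHeartbeats 400000
set_option maxHeartbeats 1600000

universe u

open Polynomial

noncomputable section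

namespace EtSemiLib

/-- Comparable primes of a polynomial ring over the same prime, not extended from it, are equal. -/
theorem eq_of_le_polynomial {R : Type u} [CommRing R] {𝔭 : Ideal R} [𝔭.IsPrime] {P Q : Ideal R[X]} [P.IsPrime]
    [Q.IsPrime] (hPQ : P ≤ Q) (hP : P.comap C = 𝔭) (hQ : Q.comap C = 𝔭) {f : R[X]} (hfP : f ∈ P)
    (hf : f.map (Ideal.Quotient.mk 𝔭) ≠ 0) : P = Q := by
  let R₀ := R ⧸ 𝔭
  let K := FractionRing R₀
  let μ := mapRingHom (Ideal.Quotient.mk 𝔭)
  have hμ : Function.Surjective μ := map_surjective _ Ideal.Quotient.mk_surjective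
  have hker : ∀ {J : Ideal R[X]}, J.comap C = 𝔭 → RingHom.ker μ ≤ J := fun {J} hJ => by
    rw [ker_mapRingHom, Ideal.mk_ker]
    exact Ideal.map_le_iff_le_comap.2 hJ.ge
  letI : Algebra R₀[X] K[X] := (mapRingHom (algebraMap R₀ K)).toAlgebra
  haveI : IsLocalization ((nonZeroDivisors R₀).map (C : R₀ →+* R₀[X])) K[X] := Polynomial.isLocalization _ K
  have hdisj : ∀ {J : Ideal R[X]} [J.IsPrime], J.comap C = 𝔭 →
      (J.map μ).IsPrime ∧ Disjoint (((nonZeroDivisors R₀).map (C : R₀ →+* R₀[X]) : Submonoid R₀[X]) : Set R₀[X]) (J.map μ) ∧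
        (J.map μ).comap μ = J := fun {J} _ hJ => by
    have hc : (J.map μ).comap μ = J := by
      rw [Ideal.comap_map_of_surjective' μ hμ, sup_eq_left]
      exact hker hJ
    refine ⟨Ideal.map_isPrime_of_surjective hμ (hker hJ), Set.disjoint_left.2 ?_, hc⟩
    rintro _ ⟨a, ha, rfl⟩ hmem
    obtain ⟨r, rfl⟩ := Ideal.Quotient.mk_surjective a
    have h1 : C r ∈ (J.map μ).comap μ := by
      show μ (C r) ∈ J.map μ
      simpa [μ] using hmem
    rw [hc] at h1
    have h2 : r ∈ 𝔭 := hJ.le h1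
    exact nonZeroDivisors.ne_zero ha (Ideal.Quotient.eq_zero_iff_mem.2 h2)
  obtain ⟨hP1, hP2, hP3⟩ := hdisj hP
  obtain ⟨hQ1, hQ2, hQ3⟩ := hdisj hQ
  let M := (nonZeroDivisors R₀).map (C : R₀ →+* R₀[X])
  let PK := (P.map μ).map (algebraMap R₀[X] K[X])
  let QK := (Q.map μ).map (algebraMap R₀[X] K[X])
  haveI : PK.IsPrime := IsLocalization.isPrime_of_isPrime_disjoint M K[X] _ hP1 hP2
  haveI : QK.IsPrime := IsLocalization.isPrime_of_isPrime_disjoint M K[X] _ hQ1 hQ2
  have hPK : PK.comap (algebraMap R₀[X] K[X]) = P.map μ :=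
    IsLocalization.comap_map_of_isPrime_disjoint M K[X] hP1 hP2
  have hQK : QK.comap (algebraMap R₀[X] K[X]) = Q.map μ :=
    IsLocalization.comap_map_of_isPrime_disjoint M K[X] hQ1 hQ2
  have hne : PK ≠ ⊥ := by
    intro h
    have h1 : algebraMap R₀[X] K[X] (μ f) ∈ PK := Ideal.mem_map_of_mem _ (Ideal.mem_map_of_mem _ hfP)
    rw [h, Ideal.mem_bot] at h1
    exact hf ((Polynomial.map_injective _ (IsFractionRing.injective R₀ K)) (by
      rw [Polynomial.map_zero]; exact h1))
  have heq : PK = QK := (IsPrime.to_maximal_ideal hne).eq_of_le (Ideal.IsPrime.ne_top inferInstance)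
    (Ideal.map_mono (Ideal.map_mono hPQ))
  rw [← hP3, ← hQ3, ← hPK, ← hQK, heq]

/-- A polynomial over the base vanishing at a point algebraic over it. -/
theorem exists_poly {A B : Type u} [CommRing A] [CommRing B] [Algebra A B] (p : Ideal A) [p.IsPrime] (q : Ideal B)
    [q.IsPrime] [q.LiesOver p]
    (hint : (Ideal.ResidueField.map p q (algebraMap A B) (Ideal.over_def q p)).IsIntegral) (x : B) :
    ∃ T : A[X], T.map (Ideal.Quotient.mk p) ≠ 0 ∧ aeval x T ∈ q := by
  let K := p.ResidueField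
  let L := q.ResidueField
  letI : Algebra K L := (Ideal.ResidueField.map p q (algebraMap A B) (Ideal.over_def q p)).toAlgebra
  haveI : IsScalarTower A K L := IsScalarTower.of_algebraMap_eq fun a => by
    rw [RingHom.algebraMap_toAlgebra, Ideal.ResidueField.map_algebraMap, ← IsScalarTower.algebraMap_apply]
  haveI : Algebra.IsIntegral K L := ⟨hint⟩
  let t : L := algebraMap B L x
  let mp := minpoly K t
  obtain ⟨b, hb, hb'⟩ := IsLocalization.integerNormalization_spec (nonZeroDivisors (A ⧸ p)) mp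
  let T₀ : (A ⧸ p)[X] := IsLocalization.integerNormalization (nonZeroDivisors (A ⧸ p)) mp
  obtain ⟨T, hT⟩ := map_surjective (Ideal.Quotient.mk p) Ideal.Quotient.mk_surjective T₀
  refine ⟨T, fun h => ?_, ?_⟩
  · rw [h] at hT
    have h2 : T₀.map (algebraMap (A ⧸ p) K) = 0 := by rw [← hT, Polynomial.map_zero]
    rw [hb'] at h2
    refine minpoly.ne_zero (Algebra.IsIntegral.isIntegral (R := K) t) ?_
    rw [Algebra.smul_def, mul_eq_zero] at h2
    refine h2.resolve_left fun h3 => ?_
    rw [Polynomial.algebraMap_apply, Polynomial.C_eq_zero] at h3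
    exact nonZeroDivisors.ne_zero hb ((FaithfulSMul.algebraMap_injective (A ⧸ p) K) (by rw [map_zero]; exact h3))
  · rw [← Ideal.algebraMap_residueField_eq_zero, ← aeval_algebraMap_apply]
    have h1 : aeval t (T.map (algebraMap A K)) = 0 := by
      rw [IsScalarTower.algebraMap_eq A (A ⧸ p) K, ← Polynomial.map_map,
        show T.map (algebraMap A (A ⧸ p)) = T₀ from hT, hb', Algebra.smul_def, map_mul, minpoly.aeval, mul_zero]
    rwa [aeval_map_algebraMap] at h1

open Classical in
/-- Translating the first coordinate avoids finitely many components. -/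
theorem exists_coordinate {A P' B : Type u} [CommRing A] [CommRing P'] [CommRing B] [Algebra A P'] [Algebra P'[X] B]
    [Algebra.Etale P'[X] B] [Algebra A B] (hcomp : algebraMap A B = (algebraMap P'[X] B).comp (C.comp (algebraMap A P')))
    (p : Ideal A) [p.IsPrime] (q : Ideal B) [q.IsPrime] [q.LiesOver p]
    (hint : (Ideal.ResidueField.map p q (algebraMap A B) (Ideal.over_def q p)).IsIntegral)
    (L : Set (Ideal B)) (hL : L.Finite)
    (hLq : ∀ P ∈ L, P.IsPrime ∧ P ≤ q ∧ P ≠ q ∧ P.comap (algebraMap A B) = p) :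
    ∃ (h : P') (T : A[X]), T.map (Ideal.Quotient.mk p) ≠ 0 ∧
      aeval (algebraMap P'[X] B (X + C h)) T ∈ q ∧ ∀ P ∈ L, aeval (algebraMap P'[X] B (X + C h)) T ∉ P := by
  let φ := algebraMap P'[X] B
  let c : P' →+* B := φ.comp C
  let x : B := φ X
  obtain ⟨T, hT, hTx⟩ := exists_poly p q hint x
  let Q0 : Ideal P' := q.comap c
  haveI : Algebra.QuasiFinite P'[X] B := inferInstance
  have hcA : ∀ a, c (algebraMap A P' a) = algebraMap A B a := fun a => (RingHom.congr_fun hcomp a).symm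
  have hp : q.comap (algebraMap A B) = p := (Ideal.over_def q p).symm
  have hlt : ∀ P ∈ L, P.comap c = Q0 → aeval x T ∉ P := by
    intro P hP hPc hmem
    obtain ⟨hPp, hPq, hPne, -⟩ := hLq P hP
    haveI := hPp
    haveI : Q0.IsPrime := Ideal.IsPrime.comap c
    let f : P'[X] := T.map (algebraMap A P')
    have hf : φ f = aeval x T := by
      show φ f = _
      rw [aeval_def, hcomp, ← hom_eval₂, eval₂_eq_eval_map, ← Polynomial.map_map]
      congr 1
      rw [eval_map, eval₂_C_X]
    refine hPne (Algebra.QuasiFinite.eq_of_le_of_under_eq (R := P'[X]) P q hPq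
      (eq_of_le_polynomial (𝔭 := Q0) (Ideal.comap_mono hPq) (by rw [← hPc]; rfl) rfl (f := f)
        (show φ f ∈ P from hf ▸ hmem) ?_))
    intro h0
    refine hT (Polynomial.ext fun k => ?_)
    have h1 := congrArg (fun g : (P' ⧸ Q0)[X] => g.coeff k) h0
    simp only [f, coeff_map, coeff_zero] at h1
    rw [Ideal.Quotient.eq_zero_iff_mem] at h1
    rw [coeff_map, coeff_zero, Ideal.Quotient.eq_zero_iff_mem, ← hp]
    show algebraMap A B (T.coeff k) ∈ q
    rw [← hcA]
    exact h1
  let L1 : Finset (Ideal B) := hL.toFinset.filter fun P => P.comap c ≠ Q0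
  have hL1 : ∀ P ∈ L1, P ∈ L ∧ P.comap c ≠ Q0 := fun P hP => by
    simpa [L1] using hP
  obtain ⟨h, hh, hav⟩ : ∃ h ∈ Q0, ∀ P ∈ L1, c h ∉ P := by
    by_contra hcon
    push Not at hcon
    have hsub : (Q0 : Set P') ⊆ ⋃ P ∈ (↑L1 : Set (Ideal B)), (P.comap c : Set P') := fun h hh => by
      obtain ⟨P, hP, hP'⟩ := hcon h hh
      exact Set.mem_iUnion₂.2 ⟨P, hP, hP'⟩
    obtain ⟨P, hP, hle⟩ := (Ideal.subset_union_prime (f := fun P : Ideal B => P.comap c) ⊥ ⊥ fun P hP _ _ => by
      haveI := (hLq P (hL1 P hP).1).1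
      exact Ideal.IsPrime.comap c).1 hsub
    exact (hL1 P hP).2 (le_antisymm (Ideal.comap_mono (hLq P (hL1 P hP).1).2.1) hle)
  have hbad : ∀ P ∈ L1, {k : ℕ | aeval (x + c h ^ k) T ∈ P}.Finite := by
    intro P hP
    obtain ⟨hPp, hPq, -, hPA⟩ := hLq P (hL1 P hP).1
    haveI := hPp
    let π := Ideal.Quotient.mk P
    let g : (B ⧸ P)[X] := T.map (π.comp (algebraMap A B))
    have hg : g ≠ 0 := by
      intro h0
      refine hT (Polynomial.ext fun k => ?_)
      have h1 := congrArg (fun g : (B ⧸ P)[X] => g.coeff k) h0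
      simp only [g, coeff_map, coeff_zero, RingHom.comp_apply] at h1
      rw [coeff_map, coeff_zero, Ideal.Quotient.eq_zero_iff_mem, ← hPA]
      exact Ideal.mem_comap.2 ((Ideal.Quotient.eq_zero_iff_mem (I := P)).1 h1)
    refine (Polynomial.finite_setOfPred_isRoot hg).preimage (f := fun k => π x + π (c h) ^ k) ?_ |>.subset ?_
    · intro k _ k' _ hkk
      simp only [add_right_inj] at hkk
      have hne : π (c h) ≠ 0 := fun h0 => hav P hP (Ideal.Quotient.eq_zero_iff_mem.1 h0)
      by_contra hk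
      wlog hlt' : k < k' generalizing k k'
      · exact this ‹_› ‹_› hkk.symm (Ne.symm hk) (by omega)
      obtain ⟨d, rfl⟩ := Nat.exists_eq_add_of_lt hlt'
      have h1 : π (c h) ^ (d + 1) = 1 := mul_left_cancel₀ (pow_ne_zero k hne) (by
        rw [← pow_add, mul_one]; exact hkk.symm)
      have h2 : c h ^ (d + 1) - 1 ∈ P := Ideal.Quotient.eq.1 (by rw [map_pow, map_one]; exact h1)
      refine (inferInstance : q.IsPrime).ne_top ((Ideal.eq_top_iff_one _).2 ?_)
      have h3 : c h ^ (d + 1) ∈ q := Ideal.pow_mem_of_mem q (hh : c h ∈ q) _ (Nat.succ_pos d)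
      simpa using sub_mem h3 (hPq h2)
    · intro k hk
      show g.IsRoot (π x + π (c h) ^ k)
      rw [IsRoot.def, eval_map, ← map_pow, ← map_add, ← hom_eval₂]
      exact Ideal.Quotient.eq_zero_iff_mem.2 hk
  obtain ⟨k, hk0, hk⟩ : ∃ k, 0 < k ∧ ∀ P ∈ L1, aeval (x + c h ^ k) T ∉ P := by
    have hfin : (⋃ P ∈ (↑L1 : Set (Ideal B)), {k : ℕ | aeval (x + c h ^ k) T ∈ P}).Finite :=
      Set.Finite.biUnion L1.finite_toSet hbad
    obtain ⟨k, hk1, hk2⟩ := ((Set.Ioi_infinite 0).diff hfin).nonempty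
    exact ⟨k, hk1, fun P hP h => hk2 (Set.mem_iUnion₂.2 ⟨P, hP, h⟩)⟩
  refine ⟨h ^ k, T, hT, ?_⟩
  have hz : φ (X + C (h ^ k)) = x + c h ^ k := by
    rw [map_add, ← map_pow]
    rfl
  rw [hz]
  have hcong : ∀ J : Ideal B, c h ∈ J → (aeval (x + c h ^ k) T ∈ J ↔ aeval x T ∈ J) := fun J hJ => by
    rw [← Ideal.Quotient.eq_zero_iff_mem, ← Ideal.Quotient.eq_zero_iff_mem (I := J) (a := aeval x T),
      aeval_def, aeval_def, hom_eval₂, hom_eval₂, map_add, map_pow, Ideal.Quotient.eq_zero_iff_mem.2 hJ,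
      zero_pow hk0.ne', add_zero]
  refine ⟨(hcong q hh).2 hTx, fun P hP => ?_⟩
  by_cases hc : P.comap c = Q0
  · rw [hcong P (show h ∈ P.comap c from hc ▸ hh)]
    exact hlt P hP hc
  · exact hk P (by simpa [L1] using ⟨hP, hc⟩)

end EtSemiLib
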