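import Groth.Agent.FibDimLib.Semicont
import Groth.Agent.FibDimLib.Formula
import Groth.Agent.FibDimLib.SchemeInv
import Mathlib.RingTheory.Jacobson.Ring
import Mathlib.RingTheory.LocalRing.ResidueField.Fiber

/-!
# Points which are closed in their fibres
-/

set_option autoImplicit false
set_option linter.all false
set_option synthInstance.maxHeartbeats 400000
set_option maxHeartbeats 1600000

universe u

open CategoryTheory AlgebraicGeometry

noncomputable section

namespace EtSemiLib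

variable {A C : Type u} [CommRing A] [CommRing C] [Algebra A C] [Algebra.FiniteType A C]

/-- A prime maximal among the primes over its image. -/
def IsFibreMax (A : Type u) {C : Type u} [CommRing A] [CommRing C] [Algebra A C] (q : Ideal C) : Prop :=
  ∀ P : Ideal C, P.IsPrime → q ≤ P → P.comap (algebraMap A C) = q.comap (algebraMap A C) → P = q

theorem exists_fibreMax (q : Ideal C) [q.IsPrime] :
    ∃ q0 : Ideal C, q0.IsPrime ∧ q ≤ q0 ∧ q0.comap (algebraMap A C) = q.comap (algebraMap A C) ∧ IsFibreMax A q0 := by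
  let p : PrimeSpectrum A := ⟨q.comap (algebraMap A C), inferInstance⟩
  let H := PrimeSpectrum.preimageOrderIsoFiber A C p
  let Z := H ⟨⟨q, inferInstance⟩, rfl⟩
  obtain ⟨m, hm, hZm⟩ := Z.asIdeal.exists_le_maximal Z.isPrime.ne_top
  let q0 := H.symm ⟨m, hm.isPrime⟩
  have hq0 : q0.1.asIdeal.comap (algebraMap A C) = q.comap (algebraMap A C) := congrArg PrimeSpectrum.asIdeal q0.2
  refine ⟨q0.1.asIdeal, q0.1.isPrime, ?_, hq0, fun P hP hle hc => ?_⟩
  · have h := H.symm.monotone (show Z ≤ ⟨m, hm.isPrime⟩ from hZm)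
    rw [H.symm_apply_apply] at h
    exact h
  · let P' := H ⟨⟨P, hP⟩, PrimeSpectrum.ext (hc.trans hq0)⟩
    have h1 : (⟨m, hm.isPrime⟩ : PrimeSpectrum (p.asIdeal.Fiber C)) ≤ P' := by
      rw [← H.apply_symm_apply ⟨m, hm.isPrime⟩]
      exact H.monotone hle
    have h2 : P' = ⟨m, hm.isPrime⟩ := PrimeSpectrum.ext (hm.eq_of_le P'.isPrime.ne_top h1).symm
    have h3 := congrArg (fun w => (H.symm w).1.asIdeal) h2
    simp only [P', H.symm_apply_apply] at h3
    exact h3

variable (q : Ideal C) [q.IsPrime] (hq : IsFibreMax A q)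

local notation "𝔭" => q.comap (algebraMap A C)

include hq in
theorem isMaximal_fibre :
    ((PrimeSpectrum.preimageOrderIsoFiber A C ⟨𝔭, inferInstance⟩) ⟨⟨q, inferInstance⟩, rfl⟩).asIdeal.IsMaximal := by
  let p : PrimeSpectrum A := ⟨𝔭, inferInstance⟩
  let H := PrimeSpectrum.preimageOrderIsoFiber A C p
  let Z := H ⟨⟨q, inferInstance⟩, rfl⟩
  obtain ⟨m, hm, hZm⟩ := Z.asIdeal.exists_le_maximal Z.isPrime.ne_top
  let w := H.symm ⟨m, hm.isPrime⟩
  have h := H.symm.monotone (show Z ≤ ⟨m, hm.isPrime⟩ from hZm)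
  rw [H.symm_apply_apply] at h
  have h2 : w = ⟨⟨q, inferInstance⟩, rfl⟩ :=
    Subtype.ext (PrimeSpectrum.ext (hq _ w.1.isPrime h (congrArg PrimeSpectrum.asIdeal w.2)))
  have h3 := congrArg H h2
  rw [H.apply_symm_apply] at h3
  show Z.asIdeal.IsMaximal
  rw [show Z = (⟨m, hm.isPrime⟩ : PrimeSpectrum (p.asIdeal.Fiber C)) from h3.symm]
  exact hm

include hq in
/-- The residue field of a point closed in its fibre is algebraic over that of its image. -/
theorem isIntegral_residueField (p : Ideal A) [p.IsPrime] (hp : p = 𝔭) :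
    (Ideal.ResidueField.map p q (algebraMap A C) hp).IsIntegral := by
  subst hp
  let K := (𝔭).ResidueField
  let L := q.ResidueField
  let μ := Ideal.ResidueField.mapₐ 𝔭 q (Algebra.ofId A C) rfl
  let ν : TensorProduct A K C →ₐ[A] L := Algebra.TensorProduct.lift μ (IsScalarTower.toAlgHom A C L) fun _ _ => .all _ _
  have hmax : (RingHom.ker ν.toRingHom).IsMaximal := isMaximal_fibre q hq
  letI : Algebra K L := (Ideal.ResidueField.map 𝔭 q (algebraMap A C) rfl).toAlgebra
  let ν' : TensorProduct A K C →ₐ[K] L :=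
    { ν.toRingHom with
      commutes' := fun k => by
        show ν (k ⊗ₜ 1) = μ k
        rw [Algebra.TensorProduct.lift_tmul, map_one, mul_one] }
  haveI : (RingHom.ker ν'.toRingHom).IsMaximal := hmax
  haveI : Algebra.FiniteType K (TensorProduct A K C) := inferInstance
  let T := TensorProduct A K C ⧸ RingHom.ker ν'.toRingHom
  letI := Ideal.Quotient.field (RingHom.ker ν'.toRingHom)
  haveI : Algebra.FiniteType K T := Algebra.FiniteType.of_surjective (Ideal.Quotient.mkₐ K _) Ideal.Quotient.mk_surjective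
  haveI : Module.Finite K T := finite_of_finite_type_of_isJacobsonRing K T
  let ρ : T →ₐ[K] L := Ideal.Quotient.liftₐ _ ν' fun a ha => ha
  have hC : ∀ c : C, algebraMap C L c ∈ Set.range ρ := fun c => ⟨Ideal.Quotient.mk _ ((1 : K) ⊗ₜ c), by
    show ν ((1 : K) ⊗ₜ c) = _
    rw [Algebra.TensorProduct.lift_tmul, map_one, one_mul]
    rfl⟩
  have hsurj : Function.Surjective ρ := by
    intro l
    obtain ⟨a, b, hb, rfl⟩ := IsFractionRing.div_surjective (C ⧸ q) l
    obtain ⟨a, rfl⟩ := Ideal.Quotient.mk_surjective a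
    obtain ⟨b, rfl⟩ := Ideal.Quotient.mk_surjective b
    obtain ⟨a', ha'⟩ := hC a
    obtain ⟨b', hb'⟩ := hC b
    refine ⟨a' / b', ?_⟩
    rw [map_div₀, ha', hb']
    rfl
  haveI : Module.Finite K L := Module.Finite.of_surjective ρ.toLinearMap hsurj
  exact fun l => Algebra.IsIntegral.isIntegral (R := K) l

include hq in
/-- The dimension of the fibre at a point closed in it. -/
theorem fibreDimAt_spec :
    FlatMor.fibreDimAt (Spec.map (CommRingCat.ofHom (algebraMap A C))) ⟨q, inferInstance⟩ =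
      ringKrullDim (Localization.AtPrime q ⧸ (𝔭).map (algebraMap A (Localization.AtPrime q))) := by
  let f := Spec.map (CommRingCat.ofHom (algebraMap A C))
  let p : PrimeSpectrum A := ⟨𝔭, inferInstance⟩
  let H := PrimeSpectrum.preimageHomeomorphFiber A C p
  let z : PrimeSpectrum.comap (algebraMap A C) ⁻¹' {p} := ⟨⟨q, inferInstance⟩, rfl⟩
  let Q := H z
  haveI hQ : Q.asIdeal.IsMaximal := isMaximal_fibre q hq
  let y : Spec (CommRingCat.of C) := ⟨q, inferInstance⟩
  have e1 : FlatMor.fibreDimAt f y = FlatMor.localDim (PrimeSpectrum (p.asIdeal.Fiber C)) Q := by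
    have h3 := ((f.fiberHomeo (f y)).symm.isOpenEmbedding.comp H.symm.isOpenEmbedding)
    refine (congrArg (FlatMor.localDim (f.fiber (f y))) ?_).trans (FibDimLib.localDim_eq_of_isOpenEmbedding h3 Q)
    show f.asFiber y = (f.fiberHomeo (f y)).symm (H.symm Q)
    rw [Homeomorph.symm_apply_apply, Scheme.Hom.asFiber]
    rfl
  refine e1.trans ((FibDimLib.localDim_eq_of_isMaximal (k := (𝔭).ResidueField) Q.asIdeal).trans ?_)
  have key : ∀ (Q Q' : Ideal C) [Q.IsPrime] [Q'.IsPrime], Q = Q' →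
      Nonempty ((Localization.AtPrime Q ⧸ ((𝔭).map (algebraMap A C)).map (algebraMap C (Localization.AtPrime Q))) ≃+*
        (Localization.AtPrime Q' ⧸ (𝔭).map (algebraMap A (Localization.AtPrime Q')))) := by
    rintro Q Q' _ _ rfl
    exact ⟨Ideal.quotEquivOfEq (by rw [Ideal.map_map, ← IsScalarTower.algebraMap_eq])⟩
  have hc : Q.asIdeal.comap (Algebra.TensorProduct.includeRight :
      C →ₐ[A] p.asIdeal.Fiber C).toRingHom = q :=
    congrArg (fun w => (Subtype.val w : PrimeSpectrum C).asIdeal) (H.symm_apply_apply z)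
  obtain ⟨e⟩ := key _ _ hc
  exact ringKrullDim_eq_of_ringEquiv ((Ideal.Fiber.algEquivAux₂ (S := C) p.asIdeal Q.asIdeal).toRingEquiv.trans e)

include hq in
/-- Finitely many primes to be avoided, so that the fibre dimension at the point drops. -/
theorem exists_avoid :
    ∃ L : Set (Ideal C), L.Finite ∧ (∀ P ∈ L, P.IsPrime ∧ P ≤ q ∧ P ≠ q ∧ P.comap (algebraMap A C) = 𝔭) ∧
      ∀ t ∈ q, (∀ P ∈ L, t ∉ P) → ∀ (J : Ideal (Localization.AtPrime q)),
        (𝔭).map (algebraMap A (Localization.AtPrime q)) ≤ J → algebraMap C _ t ∈ J →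
        ∀ d : ℕ, FlatMor.fibreDimAt (Spec.map (CommRingCat.ofHom (algebraMap A C))) ⟨q, inferInstance⟩ ≤ ((d + 1 : ℕ) : WithBot ℕ∞) →
          ringKrullDim (Localization.AtPrime q ⧸ J) ≤ (d : WithBot ℕ∞) := by
  let R := Localization.AtPrime q
  let P0 := (𝔭).map (algebraMap A R)
  let p : PrimeSpectrum A := ⟨𝔭, inferInstance⟩
  let H := PrimeSpectrum.preimageOrderIsoFiber A C p
  let z : PrimeSpectrum.comap (algebraMap A C) ⁻¹' {p} := ⟨⟨q, inferInstance⟩, rfl⟩
  -- minimal primes of the fibre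
  haveI : Algebra.FiniteType (𝔭).ResidueField (p.asIdeal.Fiber C) := inferInstance
  haveI : IsNoetherianRing (p.asIdeal.Fiber C) := Algebra.FiniteType.isNoetherianRing (𝔭).ResidueField _
  let M : Set (PrimeSpectrum.comap (algebraMap A C) ⁻¹' {p}) :=
    (fun w => H w) ⁻¹' {w | w.asIdeal ∈ minimalPrimes (p.asIdeal.Fiber C)}
  have hMfin : M.Finite := by
    refine Set.Finite.preimage H.injective.injOn ?_
    exact ((minimalPrimes.finite_of_isNoetherianRing _).preimage fun a _ b _ h => PrimeSpectrum.ext h)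
  let L : Set (Ideal C) := (fun w => w.1.asIdeal) '' {w ∈ M | w.1.asIdeal ≤ q ∧ w.1.asIdeal ≠ q}
  refine ⟨L, (hMfin.subset fun w hw => hw.1).image _, ?_, fun t htq ht J hJ htJ d hd => ?_⟩
  · rintro _ ⟨w, ⟨-, h1, h2⟩, rfl⟩
    exact ⟨w.1.isPrime, h1, h2, congrArg PrimeSpectrum.asIdeal w.2⟩
  rw [fibreDimAt_spec q hq] at hd
  have hlift : ∀ Pr : Ideal R, Pr.IsPrime → J ≤ Pr → Pr ≠ IsLocalRing.maximalIdeal R →
      ∃ Pr' : Ideal R, Pr'.IsPrime ∧ P0 ≤ Pr' ∧ Pr' < Pr := by
    intro Pr hPr hJPr hne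
    let P := Pr.comap (algebraMap C R)
    have hPq : P ≤ q := by
      rw [← IsLocalization.AtPrime.comap_maximalIdeal R q]
      exact Ideal.comap_mono (IsLocalRing.le_maximalIdeal hPr.ne_top)
    have hPp : P.comap (algebraMap A C) = 𝔭 := by
      refine le_antisymm (Ideal.comap_mono hPq) fun a ha => ?_
      show algebraMap C R (algebraMap A C a) ∈ Pr
      rw [← IsScalarTower.algebraMap_apply]
      exact hJPr (hJ (Ideal.mem_map_of_mem _ ha))
    let w : PrimeSpectrum.comap (algebraMap A C) ⁻¹' {p} := ⟨⟨P, inferInstance⟩, PrimeSpectrum.ext hPp⟩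
    obtain ⟨m, hm, hmw⟩ := Ideal.exists_minimalPrimes_le (J := (H w).asIdeal) (bot_le (a := (H w).asIdeal))
    let w' := H.symm ⟨m, hm.1.1⟩
    have hw'M : w' ∈ M := by
      show (H (H.symm ⟨m, hm.1.1⟩)).asIdeal ∈ minimalPrimes (p.asIdeal.Fiber C)
      rw [H.apply_symm_apply]
      exact hm
    have hw'w : w' ≤ w := by
      have h := H.symm.monotone (show (⟨m, hm.1.1⟩ : PrimeSpectrum (p.asIdeal.Fiber C)) ≤ H w from hmw)
      rwa [H.symm_apply_apply] at h
    have hPne : P ≠ q := fun h => hne (by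
      rw [← (IsLocalization.map_under q.primeCompl R Pr), ← IsLocalization.AtPrime.map_eq_maximalIdeal q R]
      exact congrArg (Ideal.map _) h)
    have hle : w'.1.asIdeal ≤ q := le_trans hw'w hPq
    have hne' : w'.1.asIdeal ≠ q := fun h => hPne (le_antisymm hPq (h ▸ hw'w))
    have htn : t ∉ w'.1.asIdeal := ht _ ⟨w', ⟨hw'M, hle, hne'⟩, rfl⟩
    have hd' : Disjoint (q.primeCompl : Set C) w'.1.asIdeal :=
      Set.disjoint_left.2 fun a ha hap => ha (hle hap)
    haveI := w'.1.isPrime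
    have hcm : (w'.1.asIdeal.map (algebraMap C R)).comap (algebraMap C R) = w'.1.asIdeal :=
      IsLocalization.comap_map_of_isPrime_disjoint q.primeCompl R inferInstance hd'
    refine ⟨w'.1.asIdeal.map (algebraMap C R),
      IsLocalization.isPrime_of_isPrime_disjoint q.primeCompl R _ inferInstance hd', ?_,
      lt_of_le_of_ne (Ideal.map_le_iff_le_comap.2 hw'w) fun h => ?_⟩
    · show (𝔭).map (algebraMap A R) ≤ _
      rw [IsScalarTower.algebraMap_eq A C R, ← Ideal.map_map]
      exact Ideal.map_mono (Ideal.map_le_iff_le_comap.2 (congrArg PrimeSpectrum.asIdeal w'.2).ge)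
    · refine htn (hcm ▸ ?_)
      rw [h]
      exact hJPr htJ
  refine iSup_le fun l => ?_
  rcases Nat.eq_zero_or_pos l.length with h0 | hpos
  · rw [h0]
    exact_mod_cast Nat.zero_le d
  let g : PrimeSpectrum (R ⧸ J) → PrimeSpectrum (R ⧸ P0) := fun Q =>
    PrimeSpectrum.comap (Ideal.Quotient.factor hJ) Q
  have hg : StrictMono g := Monotone.strictMono_of_injective (fun _ _ h => Ideal.comap_mono h)
    (PrimeSpectrum.comap_injective_of_surjective _ (Ideal.Quotient.factor_surjective _))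
  let l' := l.map g hg
  let Pr := (l'.head.asIdeal).comap (Ideal.Quotient.mk P0)
  have hPrJ : J ≤ Pr := fun a ha => by
    show Ideal.Quotient.factor hJ (Ideal.Quotient.mk P0 a) ∈ (l.head).asIdeal
    rw [Ideal.Quotient.factor_mk, Ideal.Quotient.eq_zero_iff_mem.2 ha]
    exact zero_mem _
  have hPrmax : Pr ≠ IsLocalRing.maximalIdeal R := by
    intro h
    have hlt : l'.head < l' ⟨1, Nat.succ_lt_succ hpos⟩ :=
      l'.strictMono (show (0 : Fin (l'.length + 1)) < ⟨1, _⟩ from Nat.zero_lt_one)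
    have h2 : Pr < (l' ⟨1, Nat.succ_lt_succ hpos⟩).asIdeal.comap (Ideal.Quotient.mk P0) :=
      lt_of_le_of_ne (Ideal.comap_mono hlt.le) fun he => hlt.ne
        (PrimeSpectrum.ext (Ideal.comap_injective_of_surjective _ Ideal.Quotient.mk_surjective he))
    rw [h] at h2
    exact absurd (IsLocalRing.le_maximalIdeal (Ideal.IsPrime.comap _).ne_top) (not_le_of_gt h2)
  obtain ⟨Pr', hPr', hP0, hlt'⟩ := hlift Pr inferInstance hPrJ hPrmax
  have hker : RingHom.ker (Ideal.Quotient.mk P0) ≤ Pr' := by rwa [Ideal.mk_ker]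
  haveI := hPr'
  let Q0 : PrimeSpectrum (R ⧸ P0) :=
    ⟨Pr'.map (Ideal.Quotient.mk P0), Ideal.map_isPrime_of_surjective Ideal.Quotient.mk_surjective hker⟩
  have hQ0 : Q0 < l'.head := by
    refine lt_of_le_of_ne (Ideal.map_le_iff_le_comap.2 hlt'.le) fun he => hlt'.ne ?_
    show Pr' = (l'.head.asIdeal).comap (Ideal.Quotient.mk P0)
    rw [← he, Ideal.comap_map_of_surjective' _ Ideal.Quotient.mk_surjective, sup_eq_left.2 hker]
  have hlen : ((l'.cons Q0 hQ0).length : WithBot ℕ∞) ≤ ((d + 1 : ℕ) : WithBot ℕ∞) :=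
    (Order.LTSeries.length_le_krullDim _).trans hd
  have hlen' : l.length + 1 ≤ d + 1 := by
    have : ((l'.cons Q0 hQ0).length : ℕ) ≤ d + 1 := by exact_mod_cast hlen
    have e : (l'.cons Q0 hQ0).length = l.length + 1 := by simp [l']
    omega
  exact_mod_cast (Nat.le_of_succ_le_succ hlen')

end EtSemiLib
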