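import Groth.Agent.EtSemiLib.StepZero

/-!
# Relative semi-purity
-/

set_option autoImplicit false
set_option linter.all false
set_option backward.isDefEq.respectTransparency false
set_option backward.isDefEq.respectTransparency.types false
set_option synthInstance.maxHeartbeats 400000
set_option maxHeartbeats 3200000

universe u

open CategoryTheory CategoryTheory.Limits AlgebraicGeometry Opposite TopologicalSpace
open Groth.Agent

noncomputable section

namespace EtSemiLib

/-- Relative semi-purity. -/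
theorem semipure : ∀ M : ℕ, SP.{u} M := by
  intro M
  induction M with
  | zero => intro n d S X Y U f _ i _ j _ _ _ _ _ G _ p hp; omega
  | succ M IH =>
  intro n d S X Y U f _ i _ j _ _ hij hdim hn G hG p hp
  refine EtPurEqLib.isZero_of_locally _ fun x => ?_
  by_cases hx : x ∈ Set.range j.base
  · exact exists_nhd_of_mem j _ p hx
  obtain ⟨W, hW, V, hV, hxV, e, hstd⟩ :=
    SmoothOfRelativeDimension.exists_isStandardSmoothOfRelativeDimension (n := M + 1) (f := f) x
  let A := Γ(S, W)
  let B := Γ(X, V)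
  letI : Algebra A B := (f.appLE W V e).hom.toAlgebra
  haveI : Algebra.IsStandardSmoothOfRelativeDimension (M + 1) A B := hstd
  obtain ⟨g0, hg0⟩ := Algebra.IsStandardSmoothOfRelativeDimension.exists_etale_mvPolynomial (M + 1) A B
  let σ := (MvPolynomial.finSuccEquiv A M).symm.toRingEquiv
  let φ : Polynomial (MvPolynomial (Fin M) A) →+* B := g0.toRingHom.comp σ.toRingHom
  have hφ : φ.Etale := RingHom.Etale.respectsIso.2 _ σ hg0
  have hcomp : φ.comp (Polynomial.C.comp MvPolynomial.C) = algebraMap A B := RingHom.ext fun a => by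
    show g0 ((MvPolynomial.finSuccEquiv A M).symm (Polynomial.C (MvPolynomial.C a))) = _
    rw [show Polynomial.C (MvPolynomial.C a) = algebraMap A (Polynomial (MvPolynomial (Fin M) A)) a from rfl,
      AlgEquiv.commutes, AlgHom.commutes]
  let g : Spec (CommRingCat.of B) ⟶ X := hV.fromSpec
  haveI : IsOpenImmersion g := hV.isOpenImmersion_fromSpec
  haveI : AlgebraicGeometry.Etale g := inferInstance
  let Z : Set (PrimeSpectrum B) := g.base ⁻¹' Set.range i.base
  have hZ : IsClosed Z := i.isClosedEmbedding.isClosed_range.preimage g.continuous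
  let I := PrimeSpectrum.vanishingIdeal Z
  have hIZ : PrimeSpectrum.zeroLocus (I : Set B) = Z := by
    rw [PrimeSpectrum.zeroLocus_vanishingIdeal_eq_closure, hZ.closure_eq]
  let xB : PrimeSpectrum B := hV.primeIdealOf ⟨x, hxV⟩
  have hgx : g.base xB = x := hV.fromSpec_primeIdealOf ⟨x, hxV⟩
  have hxZ : xB ∈ Z := by
    show g.base xB ∈ Set.range i.base
    rw [hgx]
    exact Classical.not_not.1 fun h => hx (hij.ge h)
  haveI := finiteType_chart φ hφ hcomp
  obtain ⟨q, hqp, hxq, -, hqm⟩ := exists_fibreMax (A := A) xB.asIdeal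
  haveI := hqp
  have hIq : I ≤ q := le_trans (fun b hb => (PrimeSpectrum.mem_vanishingIdeal _ _).1 hb xB hxZ) hxq
  -- fibre dimensions on the chart
  let i0 : Spec (CommRingCat.of (B ⧸ I)) ⟶ Spec (CommRingCat.of B) :=
    Spec.map (CommRingCat.ofHom (Ideal.Quotient.mk I))
  have hi0 : Set.range i0.base = Z :=
    (range_comap_of_surjective _ _ Ideal.Quotient.mk_surjective).trans (by rw [Ideal.mk_ker, hIZ])
  have hw : hW.fromSpec.base ∘ (Spec.map (CommRingCat.ofHom (algebraMap A B))).base = (g ≫ f).base := by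
    have := (IsAffineOpen.SpecMap_appLE_fromSpec f hW hV e)
    exact congrArg (fun t : Spec (CommRingCat.of B) ⟶ S => (t.base : _ → _)) this
  have hdimC : ∀ w : Spec (CommRingCat.of (B ⧸ I)),
      FlatMor.fibreDimAt (Spec.map (CommRingCat.ofHom (algebraMap A (B ⧸ I)))) w ≤ (d : WithBot ℕ∞) := by
    intro w
    have hmem : ∀ v, g.base (i0.base v) ∈ Set.range i.base := fun v => hi0.le ⟨v, rfl⟩
    choose k hk using hmem
    have hkind : Topology.IsInducing k := by
      refine (i.isClosedEmbedding.isInducing.of_comp_iff).1 ?_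
      rw [show i.base ∘ k = g.base ∘ i0.base from funext hk]
      exact g.isOpenEmbedding.isInducing.comp
        (PrimeSpectrum.isClosedEmbedding_comap_of_surjective _ _ Ideal.Quotient.mk_surjective).isInducing
    refine le_trans ?_ (hdim (k w))
    exact fibreDimAt_le_of_inducing (i ≫ f) _ k hkind hW.fromSpec.base (fun v => by
      show f.base (i.base (k v)) = _
      rw [hk]
      exact (congrFun hw (i0.base v)).symm) w
  -- transport to the chart
  let UB : (Spec (CommRingCat.of B)).Opens := g ⁻¹ᵁ j.opensRange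
  have hUB : Set.range UB.ι.base = g.base ⁻¹' Set.range j.base := Scheme.Opens.range_ι UB
  have hUB' : Set.range UB.ι.base = (PrimeSpectrum.zeroLocus (I : Set B))ᶜ := by
    rw [hUB, hij, hIZ, Set.preimage_compl]
  let fA := Spec.map (CommRingCat.ofHom (algebraMap A B))
  let G0 := (EtCoh.pull hW.fromSpec).obj G
  have hnA : IsUnit (n : A) := isUnit_natCast_of_hom (S.presheaf.map (homOfLE (le_top : W ≤ ⊤)).op).hom hn
  obtain ⟨X', h, hh, x', hx', hzero⟩ : ∃ (X' : Scheme.{u}) (h : X' ⟶ Spec (CommRingCat.of B))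
      (_ : AlgebraicGeometry.Etale h) (x' : X'), h.base x' = ⟨q, inferInstance⟩ ∧
        IsZero ((EtCoh.pull h).obj ((EtDual.locCoh UB.ι p).obj ((EtCoh.pull fA).obj G0))) := by
    rcases d with _ | d
    · exact step_zero φ hφ hcomp I hIq hqm IH n hnA (by simpa using hdimC) UB.ι hUB' G0 (nsmul_pull _ hG) p
        (by omega)
    · exact step_pos φ hφ hcomp I hIq hqm IH n d hnA hdimC UB.ι hUB' G0 (nsmul_pull _ hG) p (by omega)
  haveI := hh
  have hsp : (xB : Spec (CommRingCat.of B)) ⤳ h.base x' := by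
    rw [hx']
    exact (PrimeSpectrum.le_iff_specializes xB ⟨q, inferInstance⟩).1 hxq
  obtain ⟨x'', -, hx''⟩ := Flat.generalizingMap h hsp
  refine ⟨X', h ≫ g, inferInstance, x'', ?_, ?_⟩
  · rw [Scheme.Hom.comp_apply, hx'']
    exact hgx
  obtain ⟨e1⟩ := EtPurLib.nonempty_locCoh_pull j g UB.ι hUB ((EtCoh.pull f).obj G) p
  have hfac : fA ≫ hW.fromSpec = g ≫ f := IsAffineOpen.SpecMap_appLE_fromSpec f hW hV e
  let e2 : (EtCoh.pull g).obj ((EtCoh.pull f).obj G) ≅ (EtCoh.pull fA).obj G0 :=
    ((EtCore.pullComp g f).app G).symm ≪≫ (EtCore.pullCongr hfac.symm).app G ≪≫ (EtCore.pullComp fA hW.fromSpec).app G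
  exact (hzero.of_iso ((EtCoh.pull h).mapIso (e1 ≪≫ (EtDual.locCoh UB.ι p).mapIso e2))).of_iso
    ((EtCore.pullComp h g).app _)

end EtSemiLib
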