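import Groth.Agent.EtSemiLib.Stage
import Groth.Agent.EtSemiLib.Drop

/-!
# The induction step of relative semi-purity on an affine chart
-/

set_option autoImplicit false
set_option linter.all false
set_option backward.isDefEq.respectTransparency false
set_option backward.isDefEq.respectTransparency.types false
set_option synthInstance.maxHeartbeats 400000
set_option maxHeartbeats 3200000

universe u

open CategoryTheory CategoryTheory.Limits AlgebraicGeometry Opposite TopologicalSpace
open Groth.Agent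
open Polynomial

noncomputable section

namespace EtSemiLib

variable {M : ℕ} {A B : Type u} [CommRing A] [CommRing B] [Algebra A B]
  (φ : (MvPolynomial (Fin M) A)[X] →+* B) (hφ : φ.Etale)
  (hcomp : φ.comp (Polynomial.C.comp MvPolynomial.C) = algebraMap A B)
  (I : Ideal B) {q : Ideal B} [q.IsPrime] (hIq : I ≤ q)
  (hmax : ∀ P : Ideal B, P.IsPrime → q ≤ P → P.comap (algebraMap A B) = q.comap (algebraMap A B) → P = q)

include hφ hcomp in
theorem finiteType_chart : Algebra.FiniteType A B := by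
  rw [← RingHom.finiteType_algebraMap, ← hcomp]
  haveI : Algebra.FiniteType A (MvPolynomial (Fin M) A)[X] :=
    Algebra.FiniteType.trans (S := MvPolynomial (Fin M) A) inferInstance inferInstance
  letI : Algebra (MvPolynomial (Fin M) A)[X] B := φ.toAlgebra
  haveI : Algebra.Etale (MvPolynomial (Fin M) A)[X] B := hφ
  exact RingHom.FiniteType.comp (RingHom.finiteType_algebraMap.2 (inferInstance : Algebra.FiniteType (MvPolynomial (Fin M) A)[X] B))
    (RingHom.finiteType_algebraMap.2 inferInstance)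

include hIq hmax in
theorem isFibreMax_quot :
    ∃ (qC : Ideal (B ⧸ I)) (_ : qC.IsPrime), qC.comap (Ideal.Quotient.mk I) = q ∧ IsFibreMax A qC := by
  have hker : RingHom.ker (Ideal.Quotient.mk I) ≤ q := by rwa [Ideal.mk_ker]
  let qC := q.map (Ideal.Quotient.mk I)
  have hc : qC.comap (Ideal.Quotient.mk I) = q := by
    rw [Ideal.comap_map_of_surjective' _ Ideal.Quotient.mk_surjective, sup_eq_left.2 hker]
  refine ⟨qC, Ideal.map_isPrime_of_surjective Ideal.Quotient.mk_surjective hker, hc, fun P hP hle he => ?_⟩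
  refine Ideal.comap_injective_of_surjective (Ideal.Quotient.mk I) Ideal.Quotient.mk_surjective ?_
  rw [hc]
  refine hmax _ (Ideal.IsPrime.comap _) (hc ▸ Ideal.comap_mono hle) ?_
  calc (P.comap (Ideal.Quotient.mk I)).comap (algebraMap A B) = P.comap (algebraMap A (B ⧸ I)) := rfl
    _ = qC.comap (algebraMap A (B ⧸ I)) := he
    _ = q.comap (algebraMap A B) := by rw [← hc]; rfl

include hφ hcomp hIq hmax in
/-- Positive fibre dimension: project along a coordinate which lowers it. -/
theorem step_pos (IH : SP.{u} M) (n d : ℕ) (hn : IsUnit (n : A))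
    (hdim : ∀ w : Spec (CommRingCat.of (B ⧸ I)),
      FlatMor.fibreDimAt (Spec.map (CommRingCat.ofHom (algebraMap A (B ⧸ I)))) w ≤ ((d + 1 : ℕ) : WithBot ℕ∞))
    {U : Scheme.{u}} (j : U ⟶ Spec (CommRingCat.of B)) [IsOpenImmersion j] [EtCoh.BCCont j]
    (hj : Set.range j.base = (PrimeSpectrum.zeroLocus (I : Set B))ᶜ)
    (G : EtCoh.Ab (Spec (CommRingCat.of A))) (hG : n • 𝟙 G = 0) (p : ℕ) (hp : p < 2 * (M - d)) :
    ∃ (X' : Scheme.{u}) (g : X' ⟶ Spec (CommRingCat.of B)) (_ : AlgebraicGeometry.Etale g) (x' : X'),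
      g.base x' = ⟨q, inferInstance⟩ ∧ IsZero ((EtCoh.pull g).obj ((EtDual.locCoh j p).obj
        ((EtCoh.pull (Spec.map (CommRingCat.ofHom (algebraMap A B)))).obj G))) := by
  haveI := finiteType_chart φ hφ hcomp
  obtain ⟨qC, hqCp, hqC, hqCm⟩ := isFibreMax_quot I hIq hmax
  haveI := hqCp
  obtain ⟨L, hLf, hLp, hLd⟩ := exists_avoid qC hqCm
  let p0 : Ideal A := q.comap (algebraMap A B)
  haveI : q.LiesOver p0 := ⟨rfl⟩
  letI : Algebra (MvPolynomial (Fin M) A)[X] B := φ.toAlgebra
  haveI : Algebra.Etale (MvPolynomial (Fin M) A)[X] B := hφ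
  have hqCp0 : qC.comap (algebraMap A (B ⧸ I)) = p0 := by
    show (qC.comap (Ideal.Quotient.mk I)).comap (algebraMap A B) = _
    rw [hqC]
  obtain ⟨h, T, hT, hTq, hTL⟩ := exists_coordinate (P' := MvPolynomial (Fin M) A)
    (hcomp := hcomp.symm) p0 q (isIntegral_residueField q hmax p0 rfl)
    ((fun P => P.comap (Ideal.Quotient.mk I)) '' L) (hLf.image _) (by
      rintro _ ⟨P, hP, rfl⟩
      obtain ⟨h1, h2, h3, h4⟩ := hLp P hP
      exact ⟨Ideal.IsPrime.comap _, hqC ▸ Ideal.comap_mono h2,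
        fun he => h3 (Ideal.comap_injective_of_surjective (Ideal.Quotient.mk I) Ideal.Quotient.mk_surjective (he.trans hqC.symm)),
        h4.trans hqCp0⟩)
  let z : B := φ (X + C h)
  let ρ : A[X] →ₐ[A] B := aeval z
  let C' := B ⧸ I
  letI : Algebra A[X] C' := ((Ideal.Quotient.mk I).comp ρ.toRingHom).toAlgebra
  haveI : IsScalarTower A A[X] C' := IsScalarTower.of_algebraMap_eq fun a => by
    show Ideal.Quotient.mk I (algebraMap A B a) = Ideal.Quotient.mk I (ρ (algebraMap A A[X] a))
    rw [ρ.commutes]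
  haveI : Algebra.FiniteType A[X] C' := Algebra.FiniteType.of_restrictScalars_finiteType A A[X] C'
  have hqm : IsFibreMax A[X] qC := fun P hP hle he => hqCm P hP hle (by
    rw [IsScalarTower.algebraMap_eq A A[X] C', ← Ideal.comap_comap, he, Ideal.comap_comap])
  -- the dimension drops at the point
  have hdrop : FlatMor.fibreDimAt (Spec.map (CommRingCat.ofHom (algebraMap A[X] C'))) ⟨qC, inferInstance⟩ ≤
      (d : WithBot ℕ∞) := by
    rw [fibreDimAt_spec qC hqm]
    have htq : Ideal.Quotient.mk I (aeval z T) ∈ qC := Ideal.mem_comap.1 (hqC.symm ▸ hTq)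
    refine hLd _ htq (fun P hP hm => hTL _ ⟨P, hP, rfl⟩ hm) _ ?_ ?_ d (hdim _)
    · rw [hqCp0, IsScalarTower.algebraMap_eq A A[X] (Localization.AtPrime qC), ← Ideal.map_map]
      refine Ideal.map_mono (Ideal.map_le_iff_le_comap.2 ?_)
      rw [← hqCp0, IsScalarTower.algebraMap_eq A A[X] C', ← Ideal.comap_comap]
    · rw [show Ideal.Quotient.mk I (aeval z T) = algebraMap A[X] C' T from rfl,
        ← IsScalarTower.algebraMap_apply A[X] C' (Localization.AtPrime qC)]
      exact Ideal.mem_map_of_mem _ htq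
  -- the neighbourhood
  let i : Spec (CommRingCat.of C') ⟶ Spec (CommRingCat.of B) := Spec.map (CommRingCat.ofHom (Ideal.Quotient.mk I))
  haveI : IsClosedImmersion i := IsClosedImmersion.spec_of_surjective _ Ideal.Quotient.mk_surjective
  have hi : Set.range i.base = PrimeSpectrum.zeroLocus (I : Set B) :=
    (range_comap_of_surjective _ _ Ideal.Quotient.mk_surjective).trans (by rw [Ideal.mk_ker])
  let π := Spec.map (CommRingCat.ofHom ρ.toRingHom)
  haveI : SmoothOfRelativeDimension M π :=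
    smoothOfRelativeDimension_specMap (isStandardSmooth_projection M φ hφ hcomp h)
  let fC := Spec.map (CommRingCat.ofHom (algebraMap A[X] C'))
  have hfC : fC = i ≫ π := by
    show Spec.map _ = Spec.map _ ≫ Spec.map _
    rw [← Spec.map_comp]
    rfl
  haveI : LocallyOfFiniteType fC :=
    (HasRingHomProperty.Spec_iff (P := @LocallyOfFiniteType)).2 (RingHom.finiteType_algebraMap.2 inferInstance)
  obtain ⟨O, hO, hOeq⟩ := i.isClosedEmbedding.isInducing.isOpen_iff.1
    (FibDimLib.isOpen_fibreDimAt_le (f := fC) (d : WithBot ℕ∞))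
  let V : (Spec (CommRingCat.of B)).Opens := ⟨O, hO⟩
  let qx : Spec (CommRingCat.of B) := ⟨q, inferInstance⟩
  have hiq : i.base ⟨qC, inferInstance⟩ = qx := PrimeSpectrum.ext hqC
  have hqV : qx ∈ V := by
    rw [← hiq]
    exact (Set.ext_iff.1 hOeq ⟨qC, inferInstance⟩).2 hdrop
  let ιV := V.ι
  haveI : AlgebraicGeometry.Etale ιV := inferInstance
  let i' := i ∣_ V
  have hfac : i' ≫ ιV = (i ⁻¹ᵁ V).ι ≫ i := morphismRestrict_ι i V
  haveI : IsClosedImmersion i' := IsZariskiLocalAtTarget.restrict ‹IsClosedImmersion i› V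
  let UV : (V : Scheme.{u}).Opens := ιV ⁻¹ᵁ j.opensRange
  have hUV : Set.range UV.ι.base = ιV.base ⁻¹' Set.range j.base := Scheme.Opens.range_ι UV
  have hi' : Set.range UV.ι.base = (Set.range i'.base)ᶜ := by
    rw [hUV, hj, ← hi, Set.preimage_compl]
    congr 1
    ext v
    constructor
    · rintro ⟨w, hw⟩
      refine ⟨⟨w, show i.base w ∈ V from hw ▸ v.2⟩, ιV.isOpenEmbedding.injective ?_⟩
      rw [← Scheme.Hom.comp_apply, hfac]
      exact hw
    · rintro ⟨w, rfl⟩
      exact ⟨(i ⁻¹ᵁ V).ι.base w, congrArg (fun t => t.base w) hfac.symm⟩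
  let pr := Spec.map (CommRingCat.ofHom (Polynomial.C : A →+* A[X]))
  haveI : SmoothOfRelativeDimension M (ιV ≫ π) := by
    have : SmoothOfRelativeDimension (0 + M) (ιV ≫ π) := inferInstance
    simpa using this
  have hz := IH n d (ιV ≫ π) i' UV.ι hi' (fun w => by
    have h1 := (Set.ext_iff.1 hOeq ((i ⁻¹ᵁ V).ι.base w)).1 (show i.base _ ∈ V from w.2)
    refine le_trans ?_ h1
    refine fibreDimAt_le_of_inducing fC _ (i ⁻¹ᵁ V).ι.base (i ⁻¹ᵁ V).ι.isOpenEmbedding.isInducing id (fun w => ?_) w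
    rw [← Category.assoc, hfac, hfC]
    rfl) (isUnit_natCast_spec (isUnit_natCast_of_hom Polynomial.C hn)) ((EtCoh.pull pr).obj G) (nsmul_pull pr hG) p hp
  refine ⟨_, ιV, inferInstance, ⟨qx, hqV⟩, rfl, ?_⟩
  obtain ⟨e⟩ := EtPurLib.nonempty_locCoh_pull j ιV UV.ι hUV
    ((EtCoh.pull (Spec.map (CommRingCat.ofHom (algebraMap A B)))).obj G) p
  have hAB : π ≫ pr = Spec.map (CommRingCat.ofHom (algebraMap A B)) := by
    show Spec.map _ ≫ Spec.map _ = _
    rw [← Spec.map_comp]
    exact congrArg Spec.map (CommRingCat.hom_ext (RingHom.ext fun a => ρ.commutes a))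
  exact (hz.of_iso ((EtDual.locCoh UV.ι p).mapIso
    ((EtCoh.pull ιV).mapIso ((EtCore.pullCongr hAB).symm.app G ≪≫ (EtCore.pullComp π pr).app G) ≪≫
      ((EtCore.pullComp ιV π).app _).symm))).of_iso e

end EtSemiLib
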