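import Groth.Agent.EtSemiLib.Step
import Mathlib.RingTheory.Etale.QuasiFinite
import Mathlib.RingTheory.PolynomialAlgebra

/-!
# The induction step of relative semi-purity in fibre dimension zero
-/

set_option autoImplicit false
set_option linter.all false
set_option backward.isDefEq.respectTransparency false
set_option backward.isDefEq.respectTransparency.types false
set_option synthInstance.maxHeartbeats 400000
set_option maxHeartbeats 3200000

universe u

open CategoryTheory CategoryTheory.Limits AlgebraicGeometry Opposite TopologicalSpace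
open Groth.Agent
open Polynomial TensorProduct

noncomputable section

namespace EtSemiLib

attribute [local instance] Polynomial.algebra

/-- The projection after a base change of the affine line. -/
theorem smooth_projection_baseChange {M : ℕ} {A B R : Type u} [CommRing A] [CommRing B] [Algebra A B] [CommRing R]
    [Algebra A R] (z : B) [SmoothOfRelativeDimension M (Spec.map (CommRingCat.ofHom (aeval z : A[X] →ₐ[A] B).toRingHom))] :
    SmoothOfRelativeDimension M
      (Spec.map (CommRingCat.ofHom (aeval ((1 : R) ⊗ₜ[A] z) : R[X] →ₐ[R] R ⊗[A] B).toRingHom)) := by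
  have h1 := CommRingCat.isPushout_of_isPushout A R A[X] R[X]
  have h2 := CommRingCat.isPushout_tensorProduct A R B
  have hl : CommRingCat.ofHom (algebraMap A B) =
      CommRingCat.ofHom (algebraMap A A[X]) ≫ CommRingCat.ofHom (aeval z : A[X] →ₐ[A] B).toRingHom :=
    CommRingCat.hom_ext (RingHom.ext fun a => ((aeval z : A[X] →ₐ[A] B).commutes a).symm)
  have hr : CommRingCat.ofHom (S := R ⊗[A] B) Algebra.TensorProduct.includeLeftRingHom =
      CommRingCat.ofHom (algebraMap R R[X]) ≫
        CommRingCat.ofHom (aeval ((1 : R) ⊗ₜ[A] z) : R[X] →ₐ[R] R ⊗[A] B).toRingHom :=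
    CommRingCat.hom_ext (RingHom.ext fun a => ((aeval ((1 : R) ⊗ₜ[A] z) : R[X] →ₐ[R] R ⊗[A] B).commutes a).symm)
  have e : CommRingCat.ofHom (algebraMap A[X] R[X]) ≫
      CommRingCat.ofHom (aeval ((1 : R) ⊗ₜ[A] z) : R[X] →ₐ[R] R ⊗[A] B).toRingHom =
      CommRingCat.ofHom (aeval z : A[X] →ₐ[A] B).toRingHom ≫
        CommRingCat.ofHom (S := R ⊗[A] B) Algebra.TensorProduct.includeRight.toRingHom := by
    refine CommRingCat.hom_ext (Polynomial.ringHom_ext (fun a => ?_) ?_)
    · simp [Algebra.TensorProduct.tmul_one_eq_one_tmul]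
    · simp
  have big := h2.flip
  rw [hl, hr] at big
  have hs := CategoryTheory.IsPushout.of_left big e.symm h1.flip
  have hpb := AlgebraicGeometry.isPullback_SpecMap_of_isPushout _ _ _ _ hs
  haveI : MorphismProperty.IsStableUnderBaseChange (@SmoothOfRelativeDimension M) :=
    smoothOfRelativeDimension_isStableUnderBaseChange M
  exact MorphismProperty.of_isPullback (P := @SmoothOfRelativeDimension M) hpb (inferInstance)

variable {M : ℕ} {A B : Type u} [CommRing A] [CommRing B] [Algebra A B]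
  (φ : (MvPolynomial (Fin M) A)[X] →+* B) (hφ : φ.Etale)
  (hcomp : φ.comp (Polynomial.C.comp MvPolynomial.C) = algebraMap A B)
  (I : Ideal B) {q : Ideal B} [q.IsPrime] (hIq : I ≤ q)
  (hmax : ∀ P : Ideal B, P.IsPrime → q ≤ P → P.comap (algebraMap A B) = q.comap (algebraMap A B) → P = q)

include hφ hcomp hIq hmax in
/-- Fibre dimension zero. -/
theorem step_zero (IH : SP.{u} M) (n : ℕ) (hn : IsUnit (n : A))
    (hdim : ∀ w : Spec (CommRingCat.of (B ⧸ I)),
      FlatMor.fibreDimAt (Spec.map (CommRingCat.ofHom (algebraMap A (B ⧸ I)))) w ≤ (0 : WithBot ℕ∞))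
    {U : Scheme.{u}} (j : U ⟶ Spec (CommRingCat.of B)) [IsOpenImmersion j] [EtCoh.BCCont j]
    (hj : Set.range j.base = (PrimeSpectrum.zeroLocus (I : Set B))ᶜ)
    (G : EtCoh.Ab (Spec (CommRingCat.of A))) (hG : n • 𝟙 G = 0) (p : ℕ) (hp : p < 2 * (M + 1)) :
    ∃ (X' : Scheme.{u}) (g : X' ⟶ Spec (CommRingCat.of B)) (_ : AlgebraicGeometry.Etale g) (x' : X'),
      g.base x' = ⟨q, inferInstance⟩ ∧ IsZero ((EtCoh.pull g).obj ((EtDual.locCoh j p).obj
        ((EtCoh.pull (Spec.map (CommRingCat.ofHom (algebraMap A B)))).obj G))) := by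
  haveI := finiteType_chart φ hφ hcomp
  obtain ⟨qC, hqCp, hqC, hqCm⟩ := isFibreMax_quot I hIq hmax
  haveI := hqCp
  let C' := B ⧸ I
  haveI : Algebra.QuasiFiniteAt A qC := quasiFiniteAt_of_fibreDim ⟨qC, inferInstance⟩ (hdim _)
  let p0 : Ideal A := qC.comap (algebraMap A C')
  haveI : qC.LiesOver p0 := ⟨rfl⟩
  obtain ⟨R, _, _, _, _, _, _, e, -, P', _, -, hP'q, heP', -, hfin, -⟩ :=
    Algebra.exists_etale_isIdempotentElem_forall_liesOver_eq p0 qC
  -- the base change of the chart
  let πC : R ⊗[A] B →ₐ[A] R ⊗[A] C' := Algebra.TensorProduct.map (AlgHom.id A R) (Ideal.Quotient.mkₐ A I)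
  have hπC : Function.Surjective πC :=
    Algebra.TensorProduct.map_surjective (AlgHom.id A R) (Ideal.Quotient.mkₐ A I) Function.surjective_id
      Ideal.Quotient.mk_surjective
  have hkerπ : RingHom.ker πC = I.map (Algebra.TensorProduct.includeRight : B →ₐ[A] R ⊗[A] B) :=
    (Algebra.TensorProduct.lTensor_ker (A := R) (Ideal.Quotient.mkₐ A I) Ideal.Quotient.mk_surjective).trans
      (congrArg (Ideal.map _) Ideal.mk_ker)
  obtain ⟨e', he'⟩ := hπC e
  let W := Localization.Away e'
  let ι : R ⊗[A] B →+* W := algebraMap _ _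
  let κ : B →+* W := ι.comp (Algebra.TensorProduct.includeRight : B →ₐ[A] R ⊗[A] B).toRingHom
  let I'' : Ideal W := I.map κ
  let C'' := W ⧸ I''
  let μ : R ⊗[A] B →+* C'' := (Ideal.Quotient.mk I'').comp ι
  have hμ : RingHom.ker πC.toRingHom ≤ RingHom.ker μ := by
    show RingHom.ker πC ≤ _
    rw [hkerπ]
    refine Ideal.map_le_iff_le_comap.2 fun b hb => ?_
    exact Ideal.Quotient.eq_zero_iff_mem.2 (Ideal.mem_map_of_mem κ hb)
  let ψ : R ⊗[A] C' →+* C'' := RingHom.liftOfSurjective πC.toRingHom hπC ⟨μ, hμ⟩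
  have hψ : ∀ x, ψ (πC x) = μ x := fun x =>
    RingHom.liftOfRightInverse_comp_apply πC.toRingHom _ (Function.rightInverse_surjInv hπC) ⟨μ, hμ⟩ x
  have heu : IsUnit (ψ e) := by
    rw [← he', hψ]
    exact (IsLocalization.Away.algebraMap_isUnit (S := W) e').map (Ideal.Quotient.mk I'')
  let χ : Localization.Away e →+* C'' := IsLocalization.Away.lift e heu
  have hχ : ∀ x, χ (algebraMap _ _ x) = ψ x := fun x => IsLocalization.Away.lift_eq e heu x
  have hχs : Function.Surjective χ := by
    intro c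
    obtain ⟨w, rfl⟩ := Ideal.Quotient.mk_surjective c
    obtain ⟨⟨a, ⟨_, k, rfl⟩⟩, hw⟩ := IsLocalization.surj (Submonoid.powers e') w
    refine ⟨algebraMap _ _ (πC a) * IsLocalization.Away.invSelf (S := Localization.Away e) e ^ k, ?_⟩
    have h1 : χ (IsLocalization.Away.invSelf (S := Localization.Away e) e) * μ e' = 1 := by
      rw [← hψ, he', ← hχ, ← map_mul, mul_comm, IsLocalization.Away.mul_invSelf, map_one]
    rw [map_mul, map_pow, hχ, hψ]
    show Ideal.Quotient.mk I'' (algebraMap _ W a) * _ = _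
    rw [← hw, map_mul]
    show Ideal.Quotient.mk I'' w * Ideal.Quotient.mk I'' (ι (e' ^ k)) * _ = _
    rw [mul_assoc, map_pow, map_pow, ← mul_pow, show Ideal.Quotient.mk I'' (ι e') = μ e' from rfl,
      mul_comm (μ e'), h1, one_pow, mul_one]
  haveI : Module.Finite R C'' := by
    haveI := hfin
    let χ' : Localization.Away e →ₐ[R] C'' :=
      { χ with
        commutes' := fun r => by
          show χ (algebraMap R (Localization.Away e) r) = μ (algebraMap R (R ⊗[A] B) r)
          rw [IsScalarTower.algebraMap_apply R (R ⊗[A] C') (Localization.Away e), hχ, ← hψ]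
          congr 1 }
    exact Module.Finite.of_surjective (σ := RingHom.id R) (M := Localization.Away e) χ'.toLinearMap
      (show Function.Surjective χ'.toLinearMap from hχs)
  -- the point
  let P1 : Ideal (R ⊗[A] B) := P'.comap πC.toRingHom
  haveI : P1.IsPrime := Ideal.IsPrime.comap _
  have heP1 : e' ∉ P1 := fun h => heP' (he' ▸ h)
  have hdisj : Disjoint (Submonoid.powers e' : Set (R ⊗[A] B)) P1 :=
    (Ideal.disjoint_powers_iff_notMem_of_isPrime _).2 heP1
  let P2 : Ideal W := P1.map ι
  haveI : P2.IsPrime := IsLocalization.isPrime_of_isPrime_disjoint (Submonoid.powers e') W _ inferInstance hdisj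
  have hP2 : P2.comap κ = q := by
    rw [← Ideal.comap_comap, show P2.comap ι = P1 from
        IsLocalization.comap_map_of_isPrime_disjoint (Submonoid.powers e') W inferInstance hdisj,
      ← hqC, ← hP'q, Ideal.comap_comap, Ideal.comap_comap]
    congr 1
  let g := Spec.map (CommRingCat.ofHom κ)
  let ιW := Spec.map (CommRingCat.ofHom ι)
  haveI : IsOpenImmersion ιW := IsOpenImmersion.of_isLocalization e'
  let g1 := Spec.map (CommRingCat.ofHom (Algebra.TensorProduct.includeRight : B →ₐ[A] R ⊗[A] B).toRingHom)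
  haveI : AlgebraicGeometry.Etale g1 := by
    haveI : AlgebraicGeometry.Etale (Spec.map (CommRingCat.ofHom (algebraMap A R))) :=
      (HasRingHomProperty.Spec_iff (P := @AlgebraicGeometry.Etale)).2 (RingHom.etale_algebraMap.2 inferInstance)
    exact MorphismProperty.of_isPullback (P := @AlgebraicGeometry.Etale)
      (AlgebraicGeometry.isPullback_SpecMap_of_isPushout _ _ _ _ (CommRingCat.isPushout_tensorProduct A R B))
      inferInstance
  haveI : AlgebraicGeometry.Etale g := by
    have hg : g = ιW ≫ g1 := by rw [← Spec.map_comp]; rfl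
    rw [hg]
    infer_instance
  -- the projection
  obtain ⟨zz, hzz⟩ : ∃ zz : B, zz = φ X := ⟨_, rfl⟩
  let z' : R ⊗[A] B := (1 : R) ⊗ₜ[A] zz
  let ρ'' : R[X] →+* W := ι.comp (aeval z' : R[X] →ₐ[R] R ⊗[A] B).toRingHom
  haveI : SmoothOfRelativeDimension M (Spec.map (CommRingCat.ofHom (aeval zz : A[X] →ₐ[A] B).toRingHom)) := by
    refine smoothOfRelativeDimension_specMap ?_
    have := isStandardSmooth_projection M φ hφ hcomp 0
    rwa [map_zero, add_zero, ← hzz] at this
  haveI := smooth_projection_baseChange (M := M) (A := A) (B := B) (R := R) zz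
  let π'' := Spec.map (CommRingCat.ofHom ρ'')
  haveI : SmoothOfRelativeDimension M π'' := by
    have hh : π'' = ιW ≫ Spec.map (CommRingCat.ofHom (aeval z' : R[X] →ₐ[R] R ⊗[A] B).toRingHom) := by
      rw [← Spec.map_comp]; rfl
    rw [hh]
    have : SmoothOfRelativeDimension (0 + M)
      (ιW ≫ Spec.map (CommRingCat.ofHom (aeval z' : R[X] →ₐ[R] R ⊗[A] B).toRingHom)) := inferInstance
    simpa using this
  haveI := SmoothOfRelativeDimension.smooth M π''
  -- the monic polynomial
  obtain ⟨P, hPm, hP⟩ := Algebra.IsIntegral.isIntegral (R := R) (μ z')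
  have hPI : ρ'' P ∈ I'' := by
    rw [← Ideal.Quotient.eq_zero_iff_mem]
    show μ (aeval z' P) = 0
    rw [aeval_def, Polynomial.hom_eval₂]
    exact hP
  let D : (Spec (CommRingCat.of W)).Opens := π'' ⁻¹ᵁ PrimeSpectrum.basicOpen P
  have hD : Set.range D.ι.base = π''.base ⁻¹' (PrimeSpectrum.basicOpen P : Set (PrimeSpectrum R[X])) :=
    Scheme.Opens.range_ι D
  let i'' : Spec (CommRingCat.of C'') ⟶ Spec (CommRingCat.of W) :=
    Spec.map (CommRingCat.ofHom (Ideal.Quotient.mk I''))
  haveI : IsClosedImmersion i'' := IsClosedImmersion.spec_of_surjective _ Ideal.Quotient.mk_surjective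
  have hi'' : Set.range i''.base = PrimeSpectrum.zeroLocus (I'' : Set W) :=
    (range_comap_of_surjective _ _ Ideal.Quotient.mk_surjective).trans (by rw [Ideal.mk_ker])
  let UY : (Spec (CommRingCat.of W)).Opens := g ⁻¹ᵁ j.opensRange
  have hUY : Set.range UY.ι.base = g.base ⁻¹' Set.range j.base := Scheme.Opens.range_ι UY
  have hUY' : Set.range UY.ι.base = (Set.range i''.base)ᶜ := by
    rw [hUY, hj, hi'', Set.preimage_compl]
    congr 1
    show PrimeSpectrum.comap κ ⁻¹' _ = _
    rw [PrimeSpectrum.preimage_comap_zeroLocus, ← PrimeSpectrum.zeroLocus_span]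
    rfl
  have hr : Set.range D.ι.base ⊆ Set.range UY.ι.base := by
    rw [hD, hUY', hi'']
    exact fun x hx hz => hx (hz hPI)
  let GR := (EtCoh.pull (Spec.map (CommRingCat.ofHom (algebraMap A R)))).obj G
  let prR := Spec.map (CommRingCat.ofHom (Polynomial.C : R →+* R[X]))
  have hnR : IsUnit (n : R) := isUnit_natCast_of_hom (algebraMap A R) hn
  have hz : IsZero ((EtDual.locCoh UY.ι p).obj ((EtCoh.pull (π'' ≫ prR)).obj GR)) := by
    refine isZero_locCoh_stages UY.ι D.ι hr _ p fun a b hab => ?_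
    haveI : (EtDual.locCoh UY.ι a).Additive := inferInstanceAs (((EtDual.secSupp UY.ι).rightDerived a).Additive)
    rcases stage_iso hPm π'' D.ι hD n hnR GR (nsmul_pull _ hG) b with h | ⟨K, hK, hb, ⟨eK⟩⟩
    · exact Functor.map_isZero _ h
    refine (IH n 0 π'' i'' UY.ι hUY' (fun w => ?_)
      (isUnit_natCast_spec (isUnit_natCast_of_hom Polynomial.C hnR)) K hK a (by omega)).of_iso
        ((EtDual.locCoh UY.ι a).mapIso eK)
    refine le_trans ?_ (fibreDimAt_le_zero_of_finite (A := R) (C := C'') w)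
    have hfac : Spec.map (CommRingCat.ofHom (algebraMap R C'')) = i'' ≫ π'' ≫ prR := by
      rw [← Spec.map_comp, ← Spec.map_comp]
      refine congrArg Spec.map (CommRingCat.hom_ext (RingHom.ext fun r => ?_))
      show μ (algebraMap R (R ⊗[A] B) r) = μ (aeval z' (Polynomial.C r))
      rw [aeval_C]
    refine fibreDimAt_le_of_inducing (Spec.map (CommRingCat.ofHom (algebraMap R C''))) (i'' ≫ π'') id
      Topology.IsInducing.id prR.base (fun x => ?_) w
    rw [hfac]; rfl
  refine ⟨_, g, inferInstance, ⟨P2, inferInstance⟩, PrimeSpectrum.ext hP2, ?_⟩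
  obtain ⟨e1⟩ := EtPurLib.nonempty_locCoh_pull j g UY.ι hUY
    ((EtCoh.pull (Spec.map (CommRingCat.ofHom (algebraMap A B)))).obj G) p
  have hAB : (π'' ≫ prR) ≫ Spec.map (CommRingCat.ofHom (algebraMap A R)) =
      g ≫ Spec.map (CommRingCat.ofHom (algebraMap A B)) := by
    rw [← Spec.map_comp, ← Spec.map_comp, ← Spec.map_comp]
    refine congrArg Spec.map (CommRingCat.hom_ext (RingHom.ext fun a => congrArg ι ?_))
    show aeval z' (Polynomial.C (algebraMap A R a)) = (1 : R) ⊗ₜ[A] algebraMap A B a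
    rw [aeval_C]
    exact Algebra.TensorProduct.tmul_one_eq_one_tmul a
  exact (hz.of_iso ((EtDual.locCoh UY.ι p).mapIso
    (((EtCore.pullComp g (Spec.map (CommRingCat.ofHom (algebraMap A B)))).app G).symm ≪≫
      (EtCore.pullCongr hAB.symm).app G ≪≫ (EtCore.pullComp (π'' ≫ prR) _).app G))).of_iso e1

end EtSemiLib
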